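import Cfsg.Agent.Lib.CoprimeBase.Colour.Tables
import Cfsg.Agent.Lib.BaseThree.Asym
import Mathlib.Data.Nat.Bitwise
import Mathlib.Algebra.BigOperators.Group.Finset.Piecewise
import Mathlib.Tactic.IntervalCases
import Mathlib.Tactic.LinearCombination
import Mathlib.LinearAlgebra.FiniteDimensional.Basic

/-!
# Colourings with few colours vanishing outside a sum set and fixed only by the identity

* `IsCol`: colours in `{0, …, N r}` on elements of order `r`, `1` on the other elements, nonzero at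
  zero, at a generating set and at sums of two generators, preserved only by the identity among a
  given family of automorphisms.
* `exists_col`: they exist for abelian groups of squarefree exponent with a small two part.
-/

set_option autoImplicit false
set_option linter.style.haveILetI false
set_option linter.unusedSectionVars false
set_option linter.unusedVariables false

namespace Cfsg.Agent.CoprimeBase.Colour

open BaseThree

universe u

/-- The conditions on a colouring. -/
structure IsCol {F : Type u} [AddCommGroup F] (H : (F ≃+ F) → Prop) (N : ℕ → ℕ) (E : Set F)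
    (c : F → ℕ) : Prop where
  closure_eq : AddSubgroup.closure E = ⊤
  zero : c 0 = 1
  ne : ∀ e ∈ E, c e ≠ 0
  add : ∀ e ∈ E, ∀ f ∈ E, c (e + f) ≠ 0
  le : ∀ r : ℕ, r.Prime → ∀ y : F, y ≠ 0 → r • y = 0 → c y ≤ N r
  one : ∀ y : F, (∀ r : ℕ, r.Prime → r • y ≠ 0) → c y = 1
  rigid : ∀ h, H h → (∀ y, c (h y) = c y) → ∀ y, h y = y

section Two

variable {F : Type u} [AddCommGroup F]

/-- The element of a word. -/
def wordSum (e : ℕ → F) (n w : ℕ) : F := ∑ i ∈ Finset.range n, if w.testBit i then e i else 0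

theorem wordSum_xor {e : ℕ → F} (h2 : ∀ x : F, x + x = 0) (n v w : ℕ) :
    wordSum e n (v ^^^ w) = wordSum e n v + wordSum e n w := by
  rw [wordSum, wordSum, wordSum, ← Finset.sum_add_distrib]
  refine Finset.sum_congr rfl fun i _ => ?_
  rw [Nat.testBit_xor]
  cases v.testBit i <;> cases w.testBit i <;> simp [h2]

theorem wordSum_zero (e : ℕ → F) (n : ℕ) : wordSum e n 0 = 0 := by simp [wordSum]

theorem wordSum_two_pow (e : ℕ → F) {n i : ℕ} (hi : i < n) : wordSum e n (2 ^ i) = e i := by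
  rw [wordSum, Finset.sum_eq_single i (fun j _ hj => by simp [Ne.symm hj])
    (fun h => absurd (Finset.mem_range.2 hi) h)]
  simp

variable [Finite F]

theorem exists_coords (hF : ∀ y : F, 2 • y = 0) : ∃ (n : ℕ) (e : ℕ → F),
    Nat.card F = 2 ^ n ∧ (∀ x : F, ∃ w < 2 ^ n, wordSum e n w = x) ∧
      (∀ v < 2 ^ n, ∀ w < 2 ^ n, wordSum e n v = wordSum e n w → v = w) := by
  classical
  haveI := Fact.mk Nat.prime_two
  haveI : Module (ZMod 2) F := AddCommGroup.zmodModule hF
  haveI : Module.Finite (ZMod 2) F := Module.Finite.of_finite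
  set n := Module.finrank (ZMod 2) F with hn
  let b := Module.finBasis (ZMod 2) F
  let e : ℕ → F := fun i => if h : i < n then b ⟨i, h⟩ else 0
  have hcard : Nat.card F = 2 ^ n := by
    rw [Module.natCard_eq_pow_finrank (K := ZMod 2), Nat.card_zmod, hn]
  have hrepr : ∀ w (i : Fin n), b.repr (wordSum e n w) i = if w.testBit i then 1 else 0 := by
    intro w i
    rw [wordSum, ← Fin.sum_univ_eq_sum_range fun j => if w.testBit j then e j else 0, map_sum,
      Finsupp.finsetSum_apply, Finset.sum_eq_single i]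
    · rw [show e (i : ℕ) = b i from dif_pos i.2]
      split_ifs <;> simp
    · intro j _ hj
      rw [show e (j : ℕ) = b j from dif_pos j.2]
      split_ifs <;> simp [hj]
    · simp
  have hinj : ∀ v < 2 ^ n, ∀ w < 2 ^ n, wordSum e n v = wordSum e n w → v = w := by
    intro v hv w hw h
    refine Nat.eq_of_testBit_eq fun i => ?_
    by_cases hi : i < n
    · have := congrArg (fun y => b.repr y ⟨i, hi⟩) h
      simp only [hrepr] at this
      cases hv' : v.testBit i <;> cases hw' : w.testBit i <;> simp_all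
    · rw [Nat.testBit_lt_two_pow (hv.trans_le (Nat.pow_le_pow_right two_pos (by omega))),
        Nat.testBit_lt_two_pow (hw.trans_le (Nat.pow_le_pow_right two_pos (by omega)))]
  refine ⟨n, e, hcard, fun x => ?_, hinj⟩
  have hbij : Function.Bijective fun w : Fin (2 ^ n) => wordSum e n w := by
    rw [Nat.bijective_iff_injective_and_card]
    exact ⟨fun v w h => Fin.ext (hinj v v.2 w w.2 h), by rw [Nat.card_fin, hcard]⟩
  obtain ⟨w, hw⟩ := hbij.2 x
  exact ⟨w, w.2, hw⟩

variable {e : ℕ → F} {n : ℕ}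

theorem rigidGo_sound (h2 : ∀ x : F, x + x = 0)
    (hsurj : ∀ x : F, ∃ w < 2 ^ n, wordSum e n w = x)
    (hinj : ∀ v < 2 ^ n, ∀ w < 2 ^ n, wordSum e n v = wordSum e n w → v = w)
    {col : List ℕ} {h : F ≃+ F}
    (hcol : ∀ v < 2 ^ n, ∀ w < 2 ^ n, h (wordSum e n v) = wordSum e n w → colAt col w = colAt col v) :
    ∀ (ds : List ℕ) (sp : List (ℕ × ℕ)), (∀ d ∈ ds, d < 2 ^ n) →
      (∀ p ∈ sp, p.1 < 2 ^ n ∧ p.2 < 2 ^ n ∧ h (wordSum e n p.1) = wordSum e n p.2) →
      (0, 0) ∈ sp → rigidGo n col ds sp = true →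
      ∀ x, x ∈ ds ∨ (∃ p ∈ sp, p.1 = x) → h (wordSum e n x) = wordSum e n x := by
  intro ds
  induction ds with
  | nil =>
    intro sp _ hsp _ hgo x hx
    obtain ⟨p, hp, rfl⟩ := hx.resolve_left List.not_mem_nil
    have := List.all_eq_true.1 hgo p hp
    rw [beq_iff_eq] at this
    conv_rhs => rw [this]
    exact (hsp p hp).2.2
  | cons d ds ih =>
    intro sp hds hsp h0 hgo x hx
    have hd : d < 2 ^ n := hds d (by simp)
    obtain ⟨w, hw, hwd⟩ := hsurj (h (wordSum e n d))
    simp only [rigidGo, List.all_eq_true, List.mem_range] at hgo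
    have h1 : (colAt col w == colAt col d) = true := beq_iff_eq.2 (hcol d hd w hw hwd.symm)
    have h2' : sp.any (fun p => p.2 == w && !(p.1 == d)) = false := by
      rw [List.any_eq_false]
      intro p hp hpp
      simp only [Bool.and_eq_true, beq_iff_eq, Bool.not_eq_true', beq_eq_false_iff_ne] at hpp
      obtain ⟨hp1, -, hp3⟩ := hsp p hp
      rw [hpp.1, hwd] at hp3
      exact hpp.2 (hinj _ hp1 _ hd (h.injective hp3))
    have h3 : sp.all (fun p => colAt col (p.2 ^^^ w) == colAt col (p.1 ^^^ d)) = true :=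
      List.all_eq_true.2 fun p hp => by
        obtain ⟨hp1, hp2, hp3⟩ := hsp p hp
        refine beq_iff_eq.2 (hcol _ (Nat.xor_lt_two_pow hp1 hd) _ (Nat.xor_lt_two_pow hp2 hw) ?_)
        rw [wordSum_xor h2, wordSum_xor h2, map_add, hp3, hwd]
    have hw' := hgo w hw
    rw [h1, h2', h3] at hw'
    simp only [Bool.not_true, Bool.false_or] at hw'
    refine ih (extend sp d w) (fun y hy => hds y (by simp [hy])) ?_
      (List.mem_append_left _ h0) hw' x ?_
    · intro p hp
      rcases List.mem_append.1 hp with hp | hp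
      · exact hsp p hp
      · obtain ⟨p', hp', rfl⟩ := List.mem_map.1 hp
        obtain ⟨hp1, hp2, hp3⟩ := hsp p' hp'
        exact ⟨Nat.xor_lt_two_pow hp1 hd, Nat.xor_lt_two_pow hp2 hw,
          by rw [wordSum_xor h2, wordSum_xor h2, map_add, hp3, hwd]⟩
    · rcases hx with hx | ⟨p, hp, rfl⟩
      · rcases List.mem_cons.1 hx with rfl | hx
        · exact Or.inr ⟨(0 ^^^ x, 0 ^^^ w), List.mem_append_right _ (List.mem_map.2 ⟨_, h0, rfl⟩),
            Nat.zero_xor x⟩
        · exact Or.inl hx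
      · exact Or.inr ⟨p, List.mem_append_left _ hp, rfl⟩

theorem fixed_of_units (h2 : ∀ x : F, x + x = 0) (hsurj : ∀ x : F, ∃ w < 2 ^ n, wordSum e n w = x)
    {h : F ≃+ F} (hu : ∀ i < n, h (e i) = e i) (y : F) : h y = y := by
  obtain ⟨w, -, rfl⟩ := hsurj y
  rw [wordSum, map_sum]
  refine Finset.sum_congr rfl fun i hi => ?_
  split_ifs
  · exact hu i (Finset.mem_range.1 hi)
  · exact map_zero h

theorem mapOf_sound (h2 : ∀ x : F, x + x = 0) (h : F ≃+ F) : ∀ (l : List (ℕ × ℕ)) (sp : List (ℕ × ℕ)),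
    (∀ p ∈ l, h (wordSum e n p.1) = wordSum e n p.2) →
    (∀ p ∈ sp, h (wordSum e n p.1) = wordSum e n p.2) →
    ∀ p ∈ l.foldl (fun sp q => extend sp q.1 q.2) sp, h (wordSum e n p.1) = wordSum e n p.2 := by
  intro l
  induction l with
  | nil => exact fun sp _ hsp => hsp
  | cons q l ih =>
    intro sp hl hsp
    refine ih (extend sp q.1 q.2) (fun p hp => hl p (List.mem_cons_of_mem _ hp)) fun p hp => ?_
    rcases List.mem_append.1 hp with hp | hp
    · exact hsp p hp
    · obtain ⟨p', hp', rfl⟩ := List.mem_map.1 hp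
      rw [wordSum_xor h2, wordSum_xor h2, map_add, hsp p' hp', hl q (List.mem_cons_self ..)]

theorem mem_mapOf_swap : ∀ n : ℕ, (n = 2 ∨ n = 3) → ∀ b ∈ basesOf n, ∀ d ∈ swaps b,
    (∀ w < 2 ^ n, imgOf (mapOf b d) w < 2 ^ n) ∧
      ∀ w < 2 ^ n, (mapOf b d).any (fun e => e.1 == w) = true := by
  have aux : ∀ n : ℕ, (n = 2 ∨ n = 3) → (basesOf n).all (fun b => (swaps b).all fun d =>
      (List.range (2 ^ n)).all fun w =>
        decide (imgOf (mapOf b d) w < 2 ^ n) && (mapOf b d).any fun e => e.1 == w) = true := by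
    rintro n (rfl | rfl) <;> decide +kernel
  intro n hn b hb d hd
  have h := List.all_eq_true.1 (List.all_eq_true.1 (aux n hn) b hb) d hd
  simp only [List.all_eq_true, List.mem_range, Bool.and_eq_true, decide_eq_true_eq] at h
  exact ⟨fun w hw => (h w hw).1, fun w hw => (h w hw).2⟩

theorem swapGo_sound (hn : n = 2 ∨ n = 3) (h2 : ∀ x : F, x + x = 0)
    (hsurj : ∀ x : F, ∃ w < 2 ^ n, wordSum e n w = x)
    (hinj : ∀ v < 2 ^ n, ∀ w < 2 ^ n, wordSum e n v = wordSum e n w → v = w)
    {H : (F ≃+ F) → Prop} (hcomp : ∀ g h, H g → H h → H (g.trans h))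
    (hthree : ∀ h, H h → (∀ y, h (h (h y)) = y) → ∀ y, h y = y) :
    ∀ (bs : List (List ℕ)) (ch : List (List ℕ)), (∀ b ∈ bs, b ∈ basesOf n) →
      (∀ t ∈ ch, t.length = 2 ^ n ∧ ∃ h, H h ∧ ∀ w < 2 ^ n, t.getD w 0 < 2 ^ n ∧
        h (wordSum e n w) = wordSum e n (t.getD w 0)) →
      swapGo n bs ch = true →
      (∀ b ∈ bs, ∃ d ∈ swaps b, ∃ h, H h ∧ ∀ p ∈ b.zip d, h (wordSum e n p.1) = wordSum e n p.2) →
      False := by
  intro bs
  induction bs with
  | nil => intro ch _ _ hgo; exact absurd hgo (by simp [swapGo])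
  | cons b bs ih =>
    intro ch hbs hch hgo hall
    obtain ⟨d, hd, h, hH, hbd⟩ := hall b (List.mem_cons_self ..)
    obtain ⟨hlt, hcov⟩ := mem_mapOf_swap n hn b (hbs b (List.mem_cons_self ..)) d hd
    set t := tableOf n (mapOf b d) with ht
    have htlen : t.length = 2 ^ n := by simp [ht, tableOf]
    have hth : ∀ w < 2 ^ n, t.getD w 0 < 2 ^ n ∧ h (wordSum e n w) = wordSum e n (t.getD w 0) := by
      intro w hw
      have e1 : t.getD w 0 = imgOf (mapOf b d) w := by
        simp [ht, tableOf, hw]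
      rw [e1]
      refine ⟨hlt w hw, ?_⟩
      have hsound := mapOf_sound (e := e) (n := n) h2 h (b.zip d) [(0, 0)] hbd (fun p hp => by
        rw [List.mem_singleton.1 hp]
        simp [wordSum_zero])
      unfold imgOf
      cases hf : (mapOf b d).find? (fun p => p.1 == w) with
      | none =>
        obtain ⟨p, hp, hpw⟩ := List.any_eq_true.1 (hcov w hw)
        exact absurd hpw (by simpa using List.find?_eq_none.1 hf p hp)
      | some p =>
        have hp1 : p.1 = w := by simpa using List.find?_some hf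
        rw [← hp1]
        exact hsound p (List.mem_of_find?_eq_some hf)
    simp only [swapGo, List.all_eq_true, Bool.or_eq_true, List.any_eq_true] at hgo
    rcases hgo d hd with ⟨s, hs, hts⟩ | hrest
    · obtain ⟨hslen, h', hH', hs'⟩ := hch s hs
      simp only [orderThree, Bool.and_eq_true, bne_iff_ne, ne_eq, beq_iff_eq] at hts
      obtain ⟨hne, hcube⟩ := hts
      rw [← ht] at hne hcube
      have hu : ∀ w < 2 ^ n, (comp t s).getD w 0 < 2 ^ n ∧
          (h'.trans h) (wordSum e n w) = wordSum e n ((comp t s).getD w 0) := by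
        intro w hw
        have e1 : (comp t s).getD w 0 = t.getD (s.getD w 0) 0 := by
          simp [comp, hslen, hw]
        obtain ⟨hs1, hs2⟩ := hs' w hw
        rw [e1, AddEquiv.trans_apply, hs2]
        exact hth _ hs1
      have h3 : ∀ y, (h'.trans h) ((h'.trans h) ((h'.trans h) y)) = y := by
        intro y
        obtain ⟨w, hw, rfl⟩ := hsurj y
        obtain ⟨hw1, e1⟩ := hu w hw
        obtain ⟨hw2, e2⟩ := hu _ hw1
        obtain ⟨-, e3⟩ := hu _ hw2
        rw [e1, e2, e3]
        have hlen : (comp t s).length = 2 ^ n := by simp [comp, hslen]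
        have hc := congrArg (fun l => l.getD w 0) hcube
        have hr : (List.range (2 ^ n)).getD w 0 = w := by simp [hw]
        rw [hr] at hc
        have e4 : (comp (comp t s) (comp (comp t s) (comp t s))).getD w 0 =
            (comp t s).getD ((comp t s).getD ((comp t s).getD w 0) 0) 0 := by
          generalize comp t s = u at hlen
          simp [comp, hlen, hw]
        rw [← e4, hc]
      have hid := hthree _ (hcomp _ _ hH' hH) h3
      refine hne (List.ext_getElem (by simp [comp, hslen]) fun w hw1 hw2 => ?_)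
      rw [List.length_range] at hw2
      obtain ⟨hlt', e1⟩ := hu w hw2
      rw [hid] at e1
      have := hinj _ hw2 _ hlt' e1
      rw [List.getElem_range, ← List.getD_eq_getElem _ 0 hw1, ← this]
    · refine ih (t :: ch) (fun b' hb' => hbs b' (List.mem_cons_of_mem _ hb')) (fun t' ht' => ?_) hrest
        fun b' hb' => hall b' (List.mem_cons_of_mem _ hb')
      rcases List.mem_cons.1 ht' with rfl | ht'
      · exact ⟨htlen, h, hH, hth⟩
      · exact hch t' ht'

theorem exists_col_two (hF : ∀ y : F, 2 • y = 0) (hsmall : Nat.card F < 64)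
    (H : (F ≃+ F) → Prop) (hcomp : ∀ g h, H g → H h → H (g.trans h)) (N : ℕ) (hN : 2 ≤ N)
    (hH : 3 ≤ N ∨ ∀ h, H h → (∀ y, h (h (h y)) = y) → ∀ y, h y = y) :
    ∃ (E : Set F) (c : F → ℕ), AddSubgroup.closure E = ⊤ ∧ c 0 = 1 ∧ (∀ y, c y ≤ N) ∧
      (∀ a ∈ E, c a ≠ 0) ∧ (∀ a ∈ E, ∀ b ∈ E, c (a + b) ≠ 0) ∧
      ∀ h, H h → (∀ y, c (h y) = c y) → ∀ y, h y = y := by
  classical
  obtain ⟨n, e, hcard, hsurj, hinj⟩ := exists_coords hF
  have h2 : ∀ x : F, x + x = 0 := fun x => by rw [← two_nsmul]; exact hF x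
  have hn : n ≤ 5 := by
    by_contra h
    have : 2 ^ 6 ≤ Nat.card F := hcard ▸ Nat.pow_le_pow_right two_pos (by omega)
    omega
  choose wd hwd hwdx using hsurj
  have hwd' : ∀ w < 2 ^ n, wd (wordSum e n w) = w := fun w hw => hinj _ (hwd _) _ hw (hwdx _)
  have hsurj' : ∀ x : F, ∃ w < 2 ^ n, wordSum e n w = x := fun x => ⟨_, hwd x, hwdx x⟩
  have hclos : AddSubgroup.closure (e '' {i | i < n}) = ⊤ := by
    refine eq_top_iff.2 fun x _ => ?_
    rw [← hwdx x, wordSum]
    refine sum_mem fun i hi => ?_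
    split_ifs
    · exact AddSubgroup.subset_closure ⟨i, Finset.mem_range.1 hi, rfl⟩
    · exact zero_mem _
  by_cases hb : bound n ≤ N
  · have htab := List.all_eq_true.1 table_ok n (List.mem_range.2 (by omega))
    simp only [rigidCheck, colOK, Bool.and_eq_true, List.all_eq_true, List.mem_range, beq_iff_eq,
      decide_eq_true_eq, bne_iff_ne, ne_eq, units, List.mem_map, forall_exists_index, and_imp,
      forall_apply_eq_imp_iff₂] at htab
    obtain ⟨⟨⟨hz, hle⟩, hu⟩, hgo⟩ := htab
    refine ⟨e '' {i | i < n}, fun y => colAt (table n) (wd y), hclos, ?_, fun y => ?_, ?_, ?_,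
      fun h hh hcol y => ?_⟩
    · show colAt (table n) (wd 0) = 1
      rw [← wordSum_zero e n, hwd' 0 (Nat.two_pow_pos n), hz]
    · exact (hle _ (hwd y)).trans hb
    · rintro _ ⟨i, hi, rfl⟩
      show colAt (table n) (wd (e i)) ≠ 0
      rw [← wordSum_two_pow e hi, hwd' _ (Nat.pow_lt_pow_right one_lt_two hi)]
      exact (hu i hi).1
    · rintro _ ⟨i, hi, rfl⟩ _ ⟨j, hj, rfl⟩
      show colAt (table n) (wd (e i + e j)) ≠ 0
      rw [← wordSum_two_pow e hi, ← wordSum_two_pow e hj, ← wordSum_xor h2,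
        hwd' _ (Nat.xor_lt_two_pow (Nat.pow_lt_pow_right one_lt_two hi)
          (Nat.pow_lt_pow_right one_lt_two hj))]
      exact (hu i hi).2 j hj
    · refine fixed_of_units h2 hsurj' (fun i hi => ?_) y
      rw [← wordSum_two_pow e hi]
      refine rigidGo_sound h2 hsurj' hinj (h := h) (fun v hv w hw hvw => ?_) (units n) [(0, 0)]
        (fun d hd => ?_) (fun p hp => ?_) (List.mem_singleton_self _) hgo (2 ^ i)
        (Or.inl (List.mem_map.2 ⟨i, List.mem_range.2 hi, rfl⟩))
      · have := hcol (wordSum e n v)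
        simp only [hvw, hwd' w hw, hwd' v hv] at this
        exact this
      · obtain ⟨j, hj, rfl⟩ := List.mem_map.1 hd
        exact Nat.pow_lt_pow_right one_lt_two (List.mem_range.1 hj)
      · rw [List.mem_singleton.1 hp]
        simp [wordSum_zero]
  -- only two colours
  have hn23 : n = 2 ∨ n = 3 := by interval_cases n <;> simp [bound] at hb <;> omega
  have hthree : ∀ h, H h → (∀ y, h (h (h y)) = y) → ∀ y, h y = y :=
    hH.resolve_left fun h => hb (le_trans (by rcases hn23 with rfl | rfl <;> exact le_rfl) h)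
  obtain ⟨b, hbmem, hgood⟩ : ∃ b ∈ basesOf n, ∀ d ∈ swaps b, ∀ h, H h →
      ¬ ∀ p ∈ b.zip d, h (wordSum e n p.1) = wordSum e n p.2 := by
    by_contra! hno
    have hgo : swapGo n (basesOf n) [] = true := by
      rcases hn23 with rfl | rfl
      exacts [(Bool.and_eq_true_iff.1 swap_ok.1).2, (Bool.and_eq_true_iff.1 swap_ok.2).2]
    exact swapGo_sound hn23 h2 hsurj' hinj hcomp hthree (basesOf n) [] (fun _ h => h) (by simp) hgo hno
  have hbase : b.length = n ∧ (mapOf b b).length = 2 ^ n ∧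
      ∀ w < 2 ^ n, ∃ p ∈ mapOf b b, p.1 = w := by
    have hok : basesOK n = true := by
      rcases hn23 with rfl | rfl
      exacts [(Bool.and_eq_true_iff.1 swap_ok.1).1, (Bool.and_eq_true_iff.1 swap_ok.2).1]
    have := List.all_eq_true.1 hok b hbmem
    simp only [Bool.and_eq_true, beq_iff_eq, List.all_eq_true, List.mem_range, List.any_eq_true] at this
    exact ⟨this.1.1, this.1.2, this.2⟩
  let S : Set F := {x | ∃ a ∈ b, wordSum e n a = x}
  let c : F → ℕ := fun y => if y = 0 then 1 else if y ∈ S then 1 else 2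
  have hS : AddSubgroup.closure S = ⊤ := by
    refine eq_top_iff.2 fun x _ => ?_
    obtain ⟨p, hp, hpx⟩ := hbase.2.2 _ (hwd x)
    rw [← hwdx x, ← hpx]
    suffices hgen : ∀ (l : List (ℕ × ℕ)) (sp : List (ℕ × ℕ)), (∀ q ∈ l, q.1 ∈ b) →
        (∀ q ∈ sp, wordSum e n q.1 ∈ AddSubgroup.closure S) →
        ∀ q ∈ l.foldl (fun sp q => extend sp q.1 q.2) sp, wordSum e n q.1 ∈ AddSubgroup.closure S from
      hgen (b.zip b) [(0, 0)] (fun q hq => (List.of_mem_zip hq).1) (fun q hq => by
        rw [List.mem_singleton.1 hq, wordSum_zero]; exact zero_mem _) p hp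
    intro l
    induction l with
    | nil => exact fun sp _ hsp => hsp
    | cons q l ih =>
      intro sp hl hsp
      refine ih (extend sp q.1 q.2) (fun q' hq' => hl q' (List.mem_cons_of_mem _ hq')) fun q' hq' => ?_
      rcases List.mem_append.1 hq' with hq' | hq'
      · exact hsp q' hq'
      · obtain ⟨q'', hq'', rfl⟩ := List.mem_map.1 hq'
        rw [wordSum_xor h2]
        exact add_mem (hsp q'' hq'') (AddSubgroup.subset_closure ⟨_, hl q (List.mem_cons_self ..), rfl⟩)
  have hc0 : ∀ y, c y ≠ 0 := fun y => by simp only [c]; split_ifs <;> omega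
  refine ⟨S, c, hS, if_pos rfl, fun y => ?_, fun a _ => hc0 a, fun a _ b _ => hc0 _,
    fun h hh hcol => fixed_of_closure hS h ?_⟩
  · simp only [c]; split_ifs <;> omega
  have hperm : ∀ a ∈ b, ∃ a' ∈ b, h (wordSum e n a) = wordSum e n a' := by
    intro a ha
    by_cases h0 : wordSum e n a = 0
    · exact ⟨a, ha, by rw [h0, map_zero]⟩
    have h1 := hcol (wordSum e n a)
    simp only [c, if_neg h0, if_pos (show wordSum e n a ∈ S from ⟨a, ha, rfl⟩)] at h1
    split_ifs at h1 with e1 e2
    · exact absurd (h.injective (e1.trans (map_zero h).symm)) h0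
    · obtain ⟨a', ha', e3⟩ := e2
      exact ⟨a', ha', e3.symm⟩
    · omega
  have hlt : ∀ a ∈ b, a < 2 ^ n := by
    intro a ha
    have : ∀ b ∈ basesOf n, ∀ a ∈ b, a < 2 ^ n := by rcases hn23 with rfl | rfl <;> decide
    exact this b hbmem a ha
  rintro _ ⟨a₀, ha₀, rfl⟩
  obtain ⟨hblen, -, -⟩ := hbase
  have hnd : b.Nodup := by
    have : ∀ b ∈ basesOf n, b.Nodup := by rcases hn23 with rfl | rfl <;> decide
    exact this b hbmem
  rcases hn23 with rfl | rfl
  · obtain ⟨x, y, rfl⟩ := List.length_eq_two.1 hblen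
    have hxy : x ≠ y := by simpa using hnd
    obtain ⟨x', hx', ex⟩ := hperm x (by simp)
    obtain ⟨y', hy', ey⟩ := hperm y (by simp)
    simp only [List.mem_cons, List.not_mem_nil, or_false] at hx' hy' ha₀
    have hsw := hgood [y, x] (by simp [swaps]) h hh
    simp only [List.zip_cons_cons, List.zip_nil_left, List.mem_cons, List.not_mem_nil, or_false,
      forall_eq_or_imp, forall_eq] at hsw
    rcases hx' with hx' | hx' <;> rw [hx'] at ex <;> rcases hy' with hy' | hy' <;> rw [hy'] at ey <;>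
      first
        | exact absurd (hinj _ (hlt x (by simp)) _ (hlt y (by simp))
            (h.injective (ex.trans ey.symm))) hxy
        | (refine (hsw ?_).elim; refine ⟨?_, ?_⟩ <;> assumption)
        | (rcases ha₀ with e' | e' <;> rw [e'] <;> assumption)
  · obtain ⟨x, y, z, rfl⟩ := List.length_eq_three.1 hblen
    obtain ⟨⟨hxy, hxz⟩, hyz⟩ : (x ≠ y ∧ x ≠ z) ∧ y ≠ z := by simpa using hnd
    obtain ⟨x', hx', ex⟩ := hperm x (by simp)
    obtain ⟨y', hy', ey⟩ := hperm y (by simp)
    obtain ⟨z', hz', ez⟩ := hperm z (by simp)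
    simp only [List.mem_cons, List.not_mem_nil, or_false] at hx' hy' hz' ha₀
    have hne : ∀ a ∈ [x, y, z], ∀ a' ∈ [x, y, z],
        h (wordSum e 3 a) = h (wordSum e 3 a') → a = a' :=
      fun a ha a' ha' hh' => hinj _ (hlt a ha) _ (hlt a' ha') (h.injective hh')
    have hs1 := hgood [y, x, z] (by simp [swaps]) h hh
    have hs2 := hgood [z, y, x] (by simp [swaps]) h hh
    have hs3 := hgood [x, z, y] (by simp [swaps]) h hh
    simp only [List.zip_cons_cons, List.zip_nil_left, List.mem_cons, List.not_mem_nil, or_false,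
      forall_eq_or_imp, forall_eq] at hs1 hs2 hs3
    -- a three cycle has order three
    have hcyc : ∀ {a a' a'' : ℕ}, (∀ t, t = x ∨ t = y ∨ t = z → t = a ∨ t = a' ∨ t = a'') →
        h (wordSum e 3 a) = wordSum e 3 a' → h (wordSum e 3 a') = wordSum e 3 a'' →
        h (wordSum e 3 a'') = wordSum e 3 a → ∀ t, h t = t := by
      intro a a' a'' hcov' e1 e2 e3
      refine hthree h hh fun t => ?_
      refine fixed_of_closure hS ((h.trans h).trans h) ?_ t
      rintro _ ⟨v, hv, rfl⟩
      simp only [List.mem_cons, List.not_mem_nil, or_false] at hv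
      simp only [AddEquiv.trans_apply]
      rcases hcov' v hv with rfl | rfl | rfl
      · rw [e1, e2, e3]
      · rw [e2, e3, e1]
      · rw [e3, e1, e2]
    rcases hx' with hx' | hx' | hx' <;> rw [hx'] at ex <;>
      rcases hy' with hy' | hy' | hy' <;> rw [hy'] at ey <;>
      rcases hz' with hz' | hz' | hz' <;> rw [hz'] at ez <;>
      first
        | exact absurd (hne x (by simp) y (by simp) (ex.trans ey.symm)) hxy
        | exact absurd (hne x (by simp) z (by simp) (ex.trans ez.symm)) hxz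
        | exact absurd (hne y (by simp) z (by simp) (ey.trans ez.symm)) hyz
        | (refine (hs1 ?_).elim; refine ⟨?_, ?_, ?_⟩ <;> assumption)
        | (refine (hs2 ?_).elim; refine ⟨?_, ?_, ?_⟩ <;> assumption)
        | (refine (hs3 ?_).elim; refine ⟨?_, ?_, ?_⟩ <;> assumption)
        | exact hcyc (fun t ht => ht) ex ey ez _
        | exact hcyc (fun t ht => ht.imp id Or.symm) ex ez ey _
        | (rcases ha₀ with e' | e' | e' <;> rw [e'] <;> assumption)

end Two

section Odd

variable {F : Type u} [AddCommGroup F] [Finite F]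

theorem exists_col_odd (r : ℕ) [Fact r.Prime] (hr : r ≠ 2) (hF : ∀ y : F, r • y = 0)
    (H : (F ≃+ F) → Prop) : ∃ (E : Set F) (c : F → ℕ), AddSubgroup.closure E = ⊤ ∧ c 0 = 1 ∧
      (∀ y, c y ≤ 2) ∧ (∀ a ∈ E, c a ≠ 0) ∧ (∀ a ∈ E, ∀ b ∈ E, c (a + b) ≠ 0) ∧
      ∀ h, H h → (∀ y, c (h y) = c y) → ∀ y, h y = y := by
  classical
  have hrp := (Fact.out : r.Prime)
  have hr3 : 3 ≤ r := by have := hrp.two_le; omega
  haveI : Module (ZMod r) F := AddCommGroup.zmodModule hF
  haveI : Module.Finite (ZMod r) F := Module.Finite.of_finite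
  set n := Module.finrank (ZMod r) F with hn
  let b := Module.finBasis (ZMod r) F
  have hclos : AddSubgroup.closure (Set.range b) = ⊤ := by
    refine eq_top_iff.2 fun y _ => ?_
    rw [← b.sum_repr y]
    refine sum_mem fun i _ => ?_
    rw [← ZMod.natCast_zmod_val (b.repr y i), Nat.cast_smul_eq_nsmul]
    exact AddSubgroup.nsmul_mem _ (AddSubgroup.subset_closure (Set.mem_range_self i)) _
  have h20 : (2 : ZMod r) ≠ 0 := by
    intro h
    have h' : ((2 : ℕ) : ZMod r) = 0 := by rw [Nat.cast_ofNat]; exact h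
    have := Nat.le_of_dvd two_pos ((ZMod.natCast_eq_zero_iff _ _).1 h')
    omega
  have h21 : (2 : ZMod r) ≠ 1 := fun h => one_ne_zero (α := ZMod r) (by linear_combination h)
  have hb0 : ∀ i, b i ≠ 0 := b.ne_zero
  let Z : Set F := {y | ∃ i j : Fin n, (i : ℕ) + 1 = j ∧ y = b i + b j + b j}
  let c : F → ℕ := fun y => if y = 0 then 1 else if y ∈ Set.range b then 1 else if y ∈ Z then 0 else 2
  have hrepr : ∀ i j : Fin n, ∀ k, b.repr (b i + b j + b j) k =
      (if i = k then 1 else 0) + (if j = k then 1 else 0) + (if j = k then 1 else 0) := fun i j k => by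
    simp [Finsupp.single_apply]
  have hZsum : ∀ i j a a' : Fin n, i ≠ j → b i + b j + b j ≠ b a + b a' := by
    intro i j a a' hij h
    have e1 := congrArg (fun y => b.repr y i) h
    have e2 := congrArg (fun y => b.repr y j) h
    simp only [hrepr] at e1 e2
    simp [Finsupp.single_apply, hij, Ne.symm hij] at e1 e2
    by_cases ha : a = j <;> by_cases ha' : a' = j
    · subst ha ha'; simp [Ne.symm hij] at e1
    · simp [ha, ha'] at e2
    · simp [ha, ha'] at e2
    · simp [ha, ha'] at e2; exact h20 (by linear_combination e2)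
  have hZb : ∀ i j a : Fin n, i ≠ j → b i + b j + b j ≠ b a := by
    intro i j a hij h
    have e2 := congrArg (fun y => b.repr y j) h
    simp only [hrepr] at e2
    simp [Finsupp.single_apply, hij] at e2
    split_ifs at e2
    · exact h21 (by linear_combination e2)
    · exact h20 (by linear_combination e2)
  have hZne : ∀ {i j : Fin n}, (i : ℕ) + 1 = j → i ≠ j := fun h e => by rw [e] at h; omega
  have hZ0 : ∀ i j : Fin n, i ≠ j → b i + b j + b j ≠ 0 := by
    intro i j hij h
    have e2 := congrArg (fun y => b.repr y i) h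
    simp only [hrepr] at e2
    simp [Ne.symm hij] at e2
  refine ⟨Set.range b, c, hclos, if_pos rfl, fun y => ?_, ?_, ?_, fun h _ hcol => ?_⟩
  · simp only [c]; split_ifs <;> omega
  · rintro _ ⟨i, rfl⟩
    simp [c, hb0 i]
  · rintro _ ⟨i, rfl⟩ _ ⟨j, rfl⟩
    simp only [c]
    split_ifs with h1 h2 h3
    · omega
    · omega
    · obtain ⟨a, a', haa, he⟩ := h3
      exact absurd he.symm (hZsum a a' i j (hZne haa))
    · omega
  have hnz : ∀ y, y ≠ 0 → h y ≠ 0 := fun y hy e => hy (h.injective (e.trans (map_zero h).symm))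
  have hex : ∀ i, ∃ j, b j = h (b i) := fun i => by
    have h1 := hcol (b i)
    simp only [c, if_neg (hb0 i), if_neg (hnz _ (hb0 i)), if_pos (Set.mem_range_self i)] at h1
    split_ifs at h1 with e1 e2
    all_goals first | exact e1 | omega
  choose π hπ using hex
  have hstep : ∀ i j : Fin n, (i : ℕ) + 1 = j → (π i : ℕ) + 1 = π j := by
    intro i j hij
    have hne := hZne hij
    have h1 := hcol (b i + b j + b j)
    have hnr : b i + b j + b j ∉ Set.range b := fun ⟨a, ha⟩ => hZb i j a hne ha.symm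
    simp only [c, if_neg (hZ0 i j hne), if_neg (hnz _ (hZ0 i j hne)), if_neg hnr,
      if_pos (show b i + b j + b j ∈ Z from ⟨i, j, hij, rfl⟩)] at h1
    split_ifs at h1 with e1 e2
    obtain ⟨a, a', haa, he⟩ := e2
    rw [map_add, map_add, ← hπ, ← hπ] at he
    have hπne : π i ≠ π j := fun e => hne (b.injective (h.injective (by rw [← hπ, ← hπ, e])))
    have e3 := congrArg (fun y => b.repr y (π j)) he
    simp only [hrepr] at e3
    have hane := hZne haa
    simp [hπne] at e3
    by_cases ha' : a' = π j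
    · subst ha'
      have e4 := congrArg (fun y => b.repr y (π i)) he
      simp only [hrepr] at e4
      simp [Ne.symm hπne] at e4
      by_cases ha : a = π i
      · rw [← ha]; exact haa
      · simp [ha] at e4
    · by_cases ha : a = π j
      · simp [ha, ha'] at e3
      · simp [ha, ha'] at e3; exact absurd (show (2 : ZMod r) = 0 by linear_combination e3) h20
  have hshift : ∀ (i : ℕ) (hi : i < n), (π ⟨i, hi⟩ : ℕ) = π ⟨0, by omega⟩ + i := by
    intro i
    induction i with
    | zero => intro hi; rfl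
    | succ i ih =>
      intro hi
      rw [← hstep ⟨i, by omega⟩ ⟨i + 1, hi⟩ rfl, ih (by omega), add_assoc]
  refine fixed_of_closure hclos h ?_
  rintro _ ⟨i, rfl⟩
  rw [← hπ]
  congr 1
  refine Fin.ext ?_
  have h1 := hshift i i.2
  have h2 := hshift (n - 1) (by have := i.2; omega)
  have h3 := (π ⟨n - 1, by have := i.2; omega⟩).2
  have h4 : (π i : ℕ) = π ⟨i, i.2⟩ := rfl
  omega

end Odd

theorem exists_col {F : Type u} [AddCommGroup F] [Finite F] (H : (F ≃+ F) → Prop)
    (hcomp : ∀ g h, H g → H h → H (g.trans h))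
    (hsf : ∀ r : ℕ, r.Prime → ∀ x : F, r • r • x = 0 → r • x = 0) (hsmall : Nat.card F < 64)
    (N : ℕ → ℕ) (hN : ∀ r : ℕ, r.Prime → 2 ≤ N r)
    (hH : 3 ≤ N 2 ∨ ∀ m : ℕ, ∀ h, H h → (∀ y, m • y = 0 → h (h (h y)) = y) →
      ∀ y, m • y = 0 → h y = y) :
    ∃ (E : Set F) (c : F → ℕ), IsCol H N E c := by
  classical
  let P : Nat.Primes → AddSubgroup F := fun r => (nsmulAddMonoidHom (α := F) (r : ℕ)).ker
  have hmem : ∀ (r : Nat.Primes) (y : F), y ∈ P r ↔ (r : ℕ) • y = 0 := fun r y => Iff.rfl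
  -- the automorphisms induced on the components
  let HP : (r : Nat.Primes) → (P r ≃+ P r) → Prop := fun r g =>
    ∃ h, H h ∧ ∀ z : P r, h z = (g z : F)
  have hHP : ∀ r g g', HP r g → HP r g' → HP r (g.trans g') := by
    rintro r g g' ⟨h, hh, e⟩ ⟨h', hh', e'⟩
    exact ⟨h.trans h', hcomp _ _ hh hh', fun z => by rw [AddEquiv.trans_apply, e, e']; rfl⟩
  have hdata : ∀ r : Nat.Primes, ∃ (E : Set (P r)) (c : P r → ℕ), AddSubgroup.closure E = ⊤ ∧
      c 0 = 1 ∧ (∀ y, c y ≤ N r) ∧ (∀ a ∈ E, c a ≠ 0) ∧ (∀ a ∈ E, ∀ b ∈ E, c (a + b) ≠ 0) ∧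
      ∀ h, HP r h → (∀ y, c (h y) = c y) → ∀ y, h y = y := by
    intro r
    haveI := Fact.mk r.2
    by_cases hr2 : (r : ℕ) = 2
    · obtain ⟨E, c, h1, h2, h3, h4, h5, h6⟩ := exists_col_two (F := P r)
        (fun y => Subtype.ext (show 2 • (y : F) = 0 by rw [← hr2]; exact y.2))
        (lt_of_le_of_lt (AddSubgroup.card_le_card_addGroup _) hsmall) (HP r) (hHP r) (N r)
        (hN r r.2) (by
          rw [hr2]
          refine hH.imp id fun hH g hg hg3 y => ?_
          obtain ⟨h, hh, e⟩ := hg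
          refine Subtype.ext ?_
          rw [← e]
          refine hH 2 h hh (fun z hz => ?_) y (hr2 ▸ y.2)
          have hz' : z ∈ P r := (hmem r z).2 (hr2.symm ▸ hz)
          rw [show h z = (g ⟨z, hz'⟩ : F) from e ⟨z, hz'⟩, e, e]
          exact congrArg Subtype.val (hg3 ⟨z, hz'⟩))
      exact ⟨E, c, h1, h2, h3, h4, h5, h6⟩
    · obtain ⟨E, c, h1, h2, h3, h4, h5, h6⟩ := exists_col_odd (F := P r) r hr2
        (fun y => Subtype.ext y.2) (HP r)
      exact ⟨E, c, h1, h2, fun y => (h3 y).trans (hN r r.2), h4, h5, h6⟩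
  choose E c hcl hc0 hle hne hadd hrig using hdata
  have huniq : ∀ (r r' : Nat.Primes) (y : F), y ∈ P r → y ∈ P r' → y ≠ 0 → r = r' := by
    intro r r' y h1 h2 hy
    haveI := Fact.mk r.2
    haveI := Fact.mk r'.2
    exact Subtype.ext ((addOrderOf_eq_prime h1 hy).symm.trans (addOrderOf_eq_prime h2 hy))
  let C : F → ℕ := fun y =>
    if y = 0 then 1 else if h : ∃ r, y ∈ P r then c h.choose ⟨y, h.choose_spec⟩ else 1
  have hC : ∀ (r : Nat.Primes) (y : P r), C (y : F) = c r y := by
    intro r y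
    by_cases hy : (y : F) = 0
    · rw [show C (y : F) = 1 from if_pos hy, show y = 0 from Subtype.ext hy, hc0]
    · simp only [C, if_neg hy]
      have he : ∃ r, (y : F) ∈ P r := ⟨r, y.2⟩
      rw [dif_pos he]
      have key : ∀ (r' : Nat.Primes) (h : (y : F) ∈ P r'), r' = r → c r' ⟨y, h⟩ = c r y := by
        rintro r' h rfl; rfl
      exact key _ _ (huniq _ r _ he.choose_spec y.2 hy)
  have hCone : ∀ y : F, (∀ r : ℕ, r.Prime → r • y ≠ 0) → C y = 1 := fun y hy => by
    simp only [C]
    split_ifs with h1 h2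
    · rfl
    · obtain ⟨r, hr⟩ := h2
      exact absurd hr (hy r r.2)
    · rfl
  let E' : Set F := {y | ∃ (r : Nat.Primes) (h : y ∈ P r), (⟨y, h⟩ : P r) ∈ E r}
  refine ⟨E', C, ⟨?_, if_pos rfl, ?_, ?_, ?_, hCone, ?_⟩⟩
  · refine eq_top_iff.2 fun y _ => ?_
    refine (AddSubgroup.closure_le _).2 ?_ (closure_prime_order hsf y)
    rintro x ⟨r, hr, hx⟩
    obtain ⟨rr, rfl⟩ : ∃ rr : Nat.Primes, (rr : ℕ) = r := ⟨⟨r, hr⟩, rfl⟩
    have hx' : (⟨x, hx⟩ : P rr) ∈ AddSubgroup.closure (E rr) := by rw [hcl rr]; trivial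
    have h1 := AddSubgroup.mem_map_of_mem (P rr).subtype hx'
    rw [AddMonoidHom.map_closure] at h1
    exact AddSubgroup.closure_mono (by rintro _ ⟨a, ha, rfl⟩; exact ⟨_, a.2, ha⟩) h1
  · rintro y ⟨r, hy, hyE⟩
    rw [hC r ⟨y, hy⟩]
    exact hne r _ hyE
  · rintro y ⟨r, hy, hyE⟩ z ⟨r', hz, hzE⟩
    by_cases hy0 : y = 0
    · rw [hy0, zero_add, hC r' ⟨z, hz⟩]; exact hne r' _ hzE
    by_cases hz0 : z = 0
    · rw [hz0, add_zero, hC r ⟨y, hy⟩]; exact hne r _ hyE
    by_cases hrr : r = r'
    · subst hrr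
      rw [show y + z = ((⟨y, hy⟩ + ⟨z, hz⟩ : P r) : F) from rfl, hC]
      exact hadd r _ hyE _ hzE
    rw [hCone _ fun s hs hsum => ?_]
    · omega
    have hsum' : s • y + s • z = 0 := by rw [← nsmul_add]; exact hsum
    have h1 : s • y = 0 := by
      by_contra h
      refine hrr (huniq r r' _ ((P r).nsmul_mem hy _) ?_ h)
      rw [eq_neg_of_add_eq_zero_left hsum']
      exact (P r').neg_mem ((P r').nsmul_mem hz _)
    rw [h1, zero_add] at hsum'
    exact hrr ((huniq r ⟨s, hs⟩ y hy h1 hy0).trans (huniq r' ⟨s, hs⟩ z hz hsum' hz0).symm)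
  · intro r hr y hy hry
    rw [hC ⟨r, hr⟩ ⟨y, hry⟩]
    exact hle _ _
  · intro h hh hcol y
    refine fixed_of_closure (E := {x : F | ∃ r : ℕ, r.Prime ∧ r • x = 0})
      (eq_top_iff.2 fun x _ => closure_prime_order hsf x) h ?_ y
    rintro x ⟨r, hr, hx⟩
    set rr : Nat.Primes := ⟨r, hr⟩
    let hr' : P rr ≃+ P rr :=
      { toFun := fun z => ⟨h z, by rw [hmem, ← map_nsmul, (hmem _ _).1 z.2, map_zero]⟩
        invFun := fun z => ⟨h.symm z, by rw [hmem, ← map_nsmul, (hmem _ _).1 z.2, map_zero]⟩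
        left_inv := fun z => Subtype.ext (h.symm_apply_apply _)
        right_inv := fun z => Subtype.ext (h.apply_symm_apply _)
        map_add' := fun z w => Subtype.ext (map_add h _ _) }
    exact congrArg Subtype.val (hrig rr hr' ⟨h, hh, fun z => rfl⟩
      (fun z => by rw [← hC, ← hC]; exact hcol z) ⟨x, hx⟩)

end Cfsg.Agent.CoprimeBase.Colour
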