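import Cfsg.Agent.Lib.CoprimeBase.Colour.Colouring
import Cfsg.Agent.Lib.BaseThree.Frame
import Cfsg.Agent.Lib.OddBaseTwo.Count
import Mathlib.Dynamics.PeriodicPts.Defs
import Mathlib.Algebra.BigOperators.Field

/-!
# Two points in the primitive case with at least seven scalars and a small section

* `exists_plane_point`: a point of the plane of a frame whose fixers fix the scalars and the plane.
* `hasBase_primitive_colour`: a line with largest stabiliser and one further vector, coloured on the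
  cosets of its centraliser through power classes of the scalars.
-/

set_option autoImplicit false
set_option linter.unusedSectionVars false
set_option linter.style.haveILetI false

namespace Cfsg.Agent.CoprimeBase.Colour

open scoped commutatorElement
open OddBaseTwo BaseThree

universe u v w

variable {A : Type u} [Group A] [Finite A] {K : Type w} [Field K] [Finite K] {V : Type v}
  [AddCommGroup V] [Module K V] [DistribMulAction A V] [FaithfulSMul A V] [Finite V] [Nontrivial V]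
  (P : PrimData A K V)

theorem eq_refl_of_fix_gen {a : Kˣ} (ha : ∀ x : Kˣ, ∃ n : ℕ, a ^ n = x) {s : K ≃+* K}
    (hs : s (a : K) = a) : s = RingEquiv.refl K := by
  refine RingEquiv.ext fun x => ?_
  by_cases hx : x = 0
  · rw [hx, map_zero]; rfl
  · obtain ⟨n, hn⟩ := ha (Units.mk0 x hx)
    have hn' : (a : K) ^ n = x := by
      rw [← Units.val_pow_eq_pow_val]
      exact congrArg Units.val hn
    rw [← hn', map_pow, hs]
    rfl

theorem natCast_ne_zero_of_coprime (hcop : (Nat.card A).Coprime (Nat.card V)) {m : ℕ}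
    (hm : m ∣ Nat.card A) : (m : K) ≠ 0 := by
  haveI : Module.Finite K V := Module.Finite.of_finite
  haveI := Fintype.ofFinite K
  obtain ⟨p, hp⟩ := CharP.exists K
  haveI := hp
  intro h
  rw [CharP.cast_eq_zero_iff K p] at h
  have hpK : p ∣ Nat.card K := by
    rw [← CharP.cast_eq_zero_iff K p, Nat.card_eq_fintype_card, Nat.cast_card_eq_zero]
  have hpV : p ∣ Nat.card V := by
    rw [Module.natCard_eq_pow_finrank (K := K)]
    exact hpK.trans (dvd_pow_self _ Module.finrank_pos.ne')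
  have h1 := Nat.dvd_gcd (h.trans hm) hpV
  rw [hcop] at h1
  exact CharP.ringChar_ne_one (R := K) ((ringChar.eq K p).trans (Nat.dvd_one.1 h1))

theorem exists_plane_point (hcop : (Nat.card A).Coprime (Nat.card V)) (σ : A → (K ≃+* K))
    (hσ : ∀ (g : A) (c : K) (x : V), g • c • x = σ g c • (g • x)) {v wv : V} (hv : v ≠ 0)
    (hplane : ∀ g : A, g • v = v → ∃ α β : K, g • wv = α • v + β • wv) :
    ∃ α β : K, ∀ g : A, g • v = v → g • (α • v + β • wv) = α • v + β • wv →
      σ g = RingEquiv.refl K ∧ g • wv = wv := by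
  obtain ⟨a, ha⟩ := IsCyclic.exists_monoid_generator (α := Kˣ)
  have ha' : ∀ x : Kˣ, ∃ n : ℕ, a ^ n = x := fun x => ha x
  by_cases hline : ∃ c : K, wv = c • v
  · obtain ⟨c, hc⟩ := hline
    refine ⟨a, 0, fun g hg h => ?_⟩
    rw [zero_smul, add_zero, hσ, hg] at h
    have h1 := eq_refl_of_fix_gen ha' (smul_left_injective K hv h)
    exact ⟨h1, by rw [hc, hσ, hg, h1]; rfl⟩
  have huniq : ∀ α β α' β' : K, α • v + β • wv = α' • v + β' • wv → α = α' ∧ β = β' := by
    intro α β α' β' h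
    have h1 : (α - α') • v = (β' - β) • wv := by
      rw [sub_smul, sub_smul, sub_eq_sub_iff_add_eq_add, h, add_comm]
    by_cases hb : β' - β = 0
    · rw [hb, zero_smul, smul_eq_zero] at h1
      exact ⟨sub_eq_zero.1 (h1.resolve_right hv), (sub_eq_zero.1 hb).symm⟩
    · exfalso
      refine hline ⟨(β' - β)⁻¹ * (α - α'), ?_⟩
      rw [mul_smul, h1, inv_smul_smul₀ hb]
  choose! al be hab using hplane
  let G : Subgroup A := MulAction.stabilizer A v
  haveI : Fintype G := Fintype.ofFinite G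
  have hG : ∀ g : G, (g : A) • v = v := fun g => g.2
  let δ : G → K := fun g => al g / be g
  have hbe : ∀ g : G, be g ≠ 0 := fun g h0 => hline ⟨σ (g : A)⁻¹ (al g), by
    have h1 := hab g (hG g)
    rw [h0, zero_smul, add_zero, ← eq_inv_smul_iff] at h1
    have h2 : (g : A)⁻¹ • v = v := by rw [inv_smul_eq_iff]; exact (hG g).symm
    rw [h1, hσ, h2]⟩
  have hcoc : ∀ h g : G, al (h * g : G) = σ (h : A) (al g) + σ (h : A) (be g) * al h ∧
      be (h * g : G) = σ (h : A) (be g) * be h := by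
    intro h g
    refine huniq _ _ _ _ ?_
    rw [← hab _ (hG (h * g)), Subgroup.coe_mul, mul_smul, hab g (hG g), smul_add, hσ, hσ, hG h,
      hab h (hG h), smul_add, smul_smul, smul_smul, add_smul, add_assoc]
  have hN : (Fintype.card G : K) ≠ 0 := by
    rw [← Nat.card_eq_fintype_card]
    exact natCast_ne_zero_of_coprime hcop (Subgroup.card_subgroup_dvd_card G)
  set γ : K := (∑ g : G, δ g) / (Fintype.card G : K) with hγ
  have hfix : ∀ h : G, al h + σ (h : A) γ = be h * γ := by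
    intro h
    have h1 : ∑ g : G, δ g = σ (h : A) (∑ g : G, δ g) / be h + (Fintype.card G : K) * δ h := by
      conv_lhs => rw [← Equiv.sum_comp (Equiv.mulLeft h) δ]
      have : ∀ g, δ (Equiv.mulLeft h g) = σ (h : A) (δ g) / be h + δ h := fun g => by
        have hb' : σ (h : A) (be g) ≠ 0 := fun e => hbe g ((map_eq_zero _).1 e)
        simp only [δ, Equiv.coe_mulLeft, (hcoc h g).1, (hcoc h g).2, map_div₀]
        field_simp [hbe h, hb']
      simp only [this, Finset.sum_add_distrib, map_sum, Finset.sum_div, Finset.sum_const,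
        Finset.card_univ, nsmul_eq_mul]
    have h2 : σ (h : A) γ = σ (h : A) (∑ g : G, δ g) / (Fintype.card G : K) := by
      rw [hγ, map_div₀, map_natCast]
    rw [h2, hγ]
    simp only [δ] at h1 ⊢
    field_simp [hbe h] at h1 ⊢
    linear_combination -h1
  refine ⟨γ + a, 1, fun g hg h => ?_⟩
  have hv' : g • (γ • v + wv) = be g • (γ • v + wv) := by
    rw [smul_add, hσ, hg, hab g hg, smul_add (be g), smul_smul, ← hfix ⟨g, hg⟩, add_smul]
    abel
  have h1 : g • ((γ + (a : K)) • v + (1 : K) • wv) =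
      (be g * γ + σ g (a : K)) • v + be g • wv := by
    rw [show (γ + (a : K)) • v + (1 : K) • wv = (γ • v + wv) + (a : K) • v by
      rw [add_smul, one_smul]; abel, smul_add, hv', hσ, hg, smul_add, smul_smul, add_smul]
    abel
  rw [h1] at h
  obtain ⟨e1, e2⟩ := huniq _ _ _ _ h
  rw [e2, one_mul] at e1
  have hσ1 := eq_refl_of_fix_gen ha' (add_left_cancel e1)
  refine ⟨hσ1, ?_⟩
  have e3 := hfix ⟨g, hg⟩
  rw [e2, hσ1, one_mul] at e3
  change al g + γ = γ at e3
  rw [hab g hg, e2, add_eq_right.1 e3, zero_smul, zero_add, one_smul]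

set_option maxHeartbeats 1600000 in
theorem hasBase_primitive_colour (σ : A → (K ≃+* K))
    (hσ : ∀ (g : A) (c : K) (x : V), g • c • x = σ g c • (g • x))
    (hker : ∀ g : A, σ g = RingEquiv.refl K → g ∈ P.C)
    (hcop : (Nat.card A).Coprime (Nat.card V)) (hodd : Odd (Nat.card K)) (hq : 7 ≤ Nat.card K)
    (hW : Nat.card P.W < 64 * 64) : HasBase A V := by
  classical
  obtain ⟨fr⟩ := exists_frame P
  obtain ⟨v, w, L, lam, hv, hLM, hZL, hLc, hlam, hmemL, hw, hcw, hspan⟩ := fr
  have hMC : ∀ {g : A}, g ∈ P.M → g ∈ P.C := fun hg => P.good.le_centralizer hg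
  have hML : ∀ {g : A}, g ∈ P.M → ∀ (c : K) (x : V), g • c • x = c • g • x :=
    fun hg => P.linear _ (hMC hg)
  have hMn : ∀ {k x : A}, x ∈ P.M → k * x * k⁻¹ ∈ P.M := fun {k x} hx => P.good.normal.conj_mem x hx k
  have hlamZ : ∀ (z : A) (hz : z ∈ P.Z), lam ⟨z, hZL hz⟩ = P.χ ⟨z, hz⟩ := fun z hz =>
    Units.ext (smul_left_injective K hv (by
      show _ • v = _ • v
      rw [← hlam ⟨z, hZL hz⟩, ← P.scalar ⟨z, hz⟩]))
  set SL : Subgroup P.W := (L.subgroupOf P.M).map (π P) with hSL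
  set Dw : Subgroup P.W := perp P.form SL with hDw
  have hmemD : ∀ {g : A} (hg : g ∈ P.M), π P ⟨g, hg⟩ ∈ Dw ↔ ∀ l ∈ L, l * g = g * l := by
    intro g hg
    refine ⟨fun h l hl => ((form_eq_one_iff P hg (hLM hl)).1 (h _ ⟨⟨l, hLM hl⟩, hl, rfl⟩)).symm, ?_⟩
    rintro h _ ⟨⟨l, hlM⟩, hl, rfl⟩
    exact (form_eq_one_iff P hg hlM).2 (h l hl).symm
  let p : ↥P.M →* P.W ⧸ Dw := (QuotientGroup.mk' Dw).comp (π P)
  have hp : Function.Surjective p :=
    (QuotientGroup.mk'_surjective _).comp (QuotientGroup.mk'_surjective _)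
  have hpone : ∀ {g : A} (hg : g ∈ P.M), p ⟨g, hg⟩ = 1 ↔ ∀ l ∈ L, l * g = g * l := fun hg =>
    (QuotientGroup.eq_one_iff _).trans (hmemD hg)
  -- the coset group is small
  have hF64 : Nat.card (P.W ⧸ Dw) < 64 := by
    have hiso : SL ≤ Dw := by
      rintro _ ⟨⟨l, hl'⟩, hl, rfl⟩ _ ⟨⟨k, hk'⟩, hk, rfl⟩
      exact (form_eq_one_iff P hl' hk').2 (hLc l hl k hk)
    have h1 := card_le_perp P.form SL
    rw [Subgroup.card_eq_card_quotient_mul_card_subgroup Dw, ← hDw, mul_comm (Nat.card Dw)] at h1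
    have h2 : Nat.card (P.W ⧸ Dw) ≤ Nat.card SL := Nat.le_of_mul_le_mul_right h1 Nat.card_pos
    have h3 : Nat.card (P.W ⧸ Dw) * Nat.card (P.W ⧸ Dw) ≤ Nat.card P.W := by
      rw [Subgroup.card_eq_card_quotient_mul_card_subgroup Dw]
      exact Nat.mul_le_mul_left _
        (h2.trans (Nat.card_le_card_of_injective _ (Subgroup.inclusion_injective hiso)))
    exact Nat.mul_self_lt_mul_self_iff.1 (lt_of_le_of_lt h3 hW)
  -- representatives of prime order where possible
  have hpick : ∀ y : P.W ⧸ Dw, ∃ x : ↥P.M, p x = y ∧ (y = 1 → x = 1) ∧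
      ∀ r : ℕ, r.Prime → y ^ r = 1 → (x : A) ^ r ∈ P.Z := by
    intro y
    by_cases hy : y = 1
    · exact ⟨1, by rw [hy, map_one], fun _ => rfl, fun r _ _ => by rw [Subgroup.coe_one, one_pow]; exact one_mem _⟩
    by_cases hpr : ∃ r : ℕ, r.Prime ∧ y ^ r = 1
    swap
    · obtain ⟨x, hx⟩ := hp y
      exact ⟨x, hx, fun h => absurd h hy, fun r hr h => absurd ⟨r, hr, h⟩ hpr⟩
    obtain ⟨r, hr, hyr⟩ := hpr
    haveI := Fact.mk hr
    have hord : orderOf y = r := orderOf_eq_prime hyr hy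
    obtain ⟨x, hx⟩ := hp y
    obtain ⟨k, hk⟩ : r ∣ orderOf (π P x) := by
      rw [← hord, ← hx]
      exact orderOf_map_dvd (QuotientGroup.mk' Dw) (π P x)
    have hrk : r.Coprime k := (Nat.Prime.coprime_iff_not_dvd hr).2 fun ⟨j, hj⟩ =>
      not_sq_dvd_orderOf P hr (π P x) ⟨j, by rw [hk, hj, mul_assoc]⟩
    obtain ⟨j, -, hj⟩ := Nat.exists_mul_mod_eq_one_of_coprime hrk.symm hr.one_lt
    refine ⟨x ^ (k * j), ?_, fun h => absurd h hy, fun r' hr' h' => ?_⟩
    · rw [map_pow, hx, ← pow_mod_orderOf, hord, hj, pow_one]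
    · haveI := Fact.mk hr'
      obtain rfl : r' = r := (orderOf_eq_prime h' hy).symm.trans hord
      refine (π_eq_one P (pow_mem (x ^ (k * j)).2 _)).1 ?_
      rw [show (⟨_, pow_mem (x ^ (k * j)).2 r'⟩ : ↥P.M) = (x ^ (k * j)) ^ r' from rfl, ← pow_mul,
        map_pow, show k * j * r' = r' * k * j by ring, ← hk, pow_mul, pow_orderOf_eq_one, one_pow]
  choose X hX hX1 hXr using hpick
  haveI := Fintype.ofFinite (P.W ⧸ Dw)
  -- coordinates
  let E : Submodule K V :=
    { carrier := {x | ∀ l : ↥L, (l : A) • x = ((lam l : Kˣ) : K) • x}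
      add_mem' := fun {x y} hx hy l => by rw [smul_add, hx l, hy l, smul_add]
      zero_mem' := fun l => by rw [smul_zero, smul_zero]
      smul_mem' := fun c x hx l => by rw [hML (hLM l.2), hx l, smul_comm] }
  have hvE : v ∈ E := hlam
  have hEcomm : ∀ d ∈ P.M, (∀ l ∈ L, l * d = d * l) → ∀ x ∈ E, d • x ∈ E := fun d hd hcd x hx l => by
    rw [← mul_smul, hcd l l.2, mul_smul, hx l, hML hd]
  have hwvE : w • v ∈ E := hEcomm w hw hcw v hvE
  have huniq : ∀ e e' : P.W ⧸ Dw → V, (∀ y, e y ∈ E) → (∀ y, e' y ∈ E) →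
      ∑ y, (X y : A) • e y = ∑ y, (X y : A) • e' y → ∀ y, e y = e' y := by
    intro e e' he he' hsum y
    suffices h : ∀ f : P.W ⧸ Dw → V, (∀ y, f y ∈ E) → ∑ y, (X y : A) • f y = 0 → ∀ y, f y = 0 by
      exact sub_eq_zero.1 (h (fun y => e y - e' y) (fun y => E.sub_mem (he y) (he' y))
        (by simp only [smul_sub, Finset.sum_sub_distrib, hsum, sub_self]) y)
    intro f hf hf0 y
    let ψ : P.W ⧸ Dw → (↥L →* K) := fun y =>
      (Units.coeHom K).comp ((P.form.flip (π P (X y))).comp ((π P).comp (Subgroup.inclusion hLM)))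
    have hψinj : Function.Injective ψ := by
      intro a b hab
      rw [← hX a, ← hX b]
      refine QuotientGroup.eq.2 ?_
      rintro _ ⟨⟨l, hlM⟩, hl, rfl⟩
      have h1 : P.form (π P ⟨l, hlM⟩) (π P (X a)) = P.form (π P ⟨l, hlM⟩) (π P (X b)) :=
        Units.ext (DFunLike.congr_fun hab (⟨l, hl⟩ : ↥L))
      have h2 := pairing_skew P.form P.halt (π P ⟨l, hlM⟩) ((π P (X a))⁻¹ * π P (X b))
      rw [map_mul, map_inv, h1, inv_mul_cancel, one_mul] at h2
      exact h2
    have hli := (linearIndependent_monoidHom ↥L K).comp ψ hψinj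
    have hl0 : ∀ l : ↥L, ∑ y, ψ y l • ((X y : A) • f y) = 0 := by
      intro l
      have h1 : (l : A) • ∑ y, (X y : A) • f y = 0 := by rw [hf0, smul_zero]
      have h2 : (l : A) • ∑ y, (X y : A) • f y =
          ((lam l : Kˣ) : K) • ∑ y, ψ y l • ((X y : A) • f y) := by
        rw [Finset.smul_sum, Finset.smul_sum]
        refine Finset.sum_congr rfl fun y _ => ?_
        rw [P.smul_smul_eq (hLM l.2) (X y).2, hf y l, hML (X y).2, smul_smul, smul_smul,
          mul_comm ((lam l : Kˣ) : K)]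
        rfl
      rw [h2] at h1
      exact (smul_eq_zero.1 h1).resolve_left (Units.ne_zero _)
    refine (smul_eq_zero_iff_eq (X y : A)).1 ((Module.forall_dual_apply_eq_zero_iff K _).1 fun φ => ?_)
    refine Fintype.linearIndependent_iff.1 hli (fun y => φ ((X y : A) • f y)) (funext fun l => ?_) y
    rw [Finset.sum_apply, Pi.zero_apply, ← map_zero φ, ← hl0 l, map_sum]
    refine Finset.sum_congr rfl fun y _ => ?_
    simp only [Function.comp_apply, Pi.smul_apply, smul_eq_mul, map_smul, mul_comm]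
  -- what fixes the point normalises the line stabiliser and its centraliser
  have hconjL : ∀ k : A, k • v = v → ∀ l ∈ L, k * l * k⁻¹ ∈ L := by
    intro k hk l hl
    refine hmemL _ (hMn (hLM hl)) (σ k (lam ⟨l, hl⟩ : Kˣ)) ?_
    rw [mul_smul, mul_smul, (inv_smul_eq_iff.2 hk.symm : k⁻¹ • v = v), hlam ⟨l, hl⟩, hσ, hk]
  have hpg : ∀ (k : A), k • v = v → ∀ {x : A}, x ∈ P.M → (∀ l ∈ L, l * x = x * l) →
      ∀ l ∈ L, l * (k * x * k⁻¹) = k * x * k⁻¹ * l := by
    intro k hk x hx hcx l hl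
    have h1 := hcx _ (hconjL k⁻¹ (by rw [inv_smul_eq_iff, hk]) l hl)
    rw [inv_inv] at h1
    calc l * (k * x * k⁻¹) = k * (k⁻¹ * l * k * x) * k⁻¹ := by group
      _ = k * x * k⁻¹ * l := by rw [h1]; group
  obtain ⟨al, be, hpoint⟩ := exists_plane_point hcop σ hσ hv (wv := w • v) fun g hg => by
    obtain ⟨α, β, h⟩ := hspan _ (hMn hw) (hpg g hg hw hcw)
    refine ⟨α, β, ?_⟩
    rwa [mul_smul, mul_smul, (inv_smul_eq_iff.2 hg.symm : g⁻¹ • v = v)] at h
  -- the power classes
  obtain ⟨a, ha⟩ := IsCyclic.exists_monoid_generator (α := Kˣ)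
  have hdvd : ∀ s : ℕ, a ^ s = 1 → Nat.card K - 1 ∣ s := fun s h => by
    rw [← Nat.card_units, ← orderOf_eq_card_of_forall_mem_powers ha]
    exact orderOf_dvd_of_pow_eq_one h
  let mr : ℕ → ℕ := fun r => if r = 2 then 2 else 1
  let sr : ℕ → ℕ := fun r => r * mr r
  let Pr : ℕ → Subgroup Kˣ := fun r => (powMonoidHom (sr r) : Kˣ →* Kˣ).range
  have hsr : ∀ r : ℕ, r.Prime → a ^ sr r ≠ 1 := by
    intro r hr h
    have h1 := hdvd _ h
    by_cases h2 : r = 2
    · simp only [sr, mr, h2, if_true] at h1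
      have := Nat.le_of_dvd (by norm_num) h1
      omega
    · simp only [sr, mr, h2, if_false, mul_one] at h1
      obtain ⟨j, hj⟩ := hodd
      have h3 : (2 : ℕ) ∣ r := (dvd_mul_right 2 j).trans (by rwa [hj, Nat.add_sub_cancel] at h1)
      exact h2 ((Nat.prime_dvd_prime_iff_eq Nat.prime_two hr).1 h3).symm
  let N : ℕ → ℕ := fun r => if r = 2 ∧ 3 ≤ Nat.card (Pr 2) then 3 else 2
  have hN2 : ∀ r : ℕ, r.Prime → 2 ≤ N r := fun r _ => by simp only [N]; split_ifs <;> omega
  have hNle : ∀ r : ℕ, r.Prime → N r ≤ Nat.card (Pr r) := by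
    intro r hr
    have h2 : 2 ≤ Nat.card (Pr r) := by
      refine Finite.one_lt_card_iff_nontrivial.2 ⟨⟨⟨_, a, rfl⟩, 1, fun h => hsr r hr ?_⟩⟩
      exact congrArg Subtype.val h
    simp only [N]
    split_ifs with h
    · rw [h.1]; exact h.2
    · exact h2
  -- the colouring
  let H : (Additive (P.W ⧸ Dw) ≃+ Additive (P.W ⧸ Dw)) → Prop := fun h =>
    ∃ g : A, g • v = v ∧ g ∈ P.C ∧
      ∀ x : ↥P.M, h (Additive.ofMul (p x)) = Additive.ofMul (p (MulAut.conjNormal g x))
  have hcomp : ∀ h h', H h → H h' → H (h.trans h') := by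
    rintro h h' ⟨g, hg, hgC, e⟩ ⟨g', hg', hgC', e'⟩
    exact ⟨g' * g, by rw [mul_smul, hg, hg'], P.C.mul_mem hgC' hgC, fun x => by
      rw [AddEquiv.trans_apply, e, e', map_mul, MulAut.mul_apply]⟩
  have hsf : ∀ r : ℕ, r.Prime → ∀ x : Additive (P.W ⧸ Dw), r • r • x = 0 → r • x = 0 := by
    intro r hr x hx
    obtain ⟨y, rfl⟩ := Additive.ofMul.surjective x
    obtain ⟨z, rfl⟩ := QuotientGroup.mk_surjective y
    rw [← ofMul_pow, ← ofMul_pow, ← pow_mul, ofMul_eq_zero] at hx
    rw [← ofMul_pow, ofMul_eq_zero]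
    have h1 : orderOf (QuotientGroup.mk z : P.W ⧸ Dw) ∣ orderOf z :=
      orderOf_map_dvd (QuotientGroup.mk' Dw) z
    have h2 : orderOf (QuotientGroup.mk z : P.W ⧸ Dw) ∣ r ^ 2 := by
      rw [sq]; exact orderOf_dvd_of_pow_eq_one hx
    obtain ⟨i, hi, hio⟩ := (Nat.dvd_prime_pow hr).1 h2
    refine orderOf_dvd_iff_pow_eq_one.1 ?_
    have hi2 : i ≠ 2 := fun h => by
      rw [hio, h, sq] at h1
      exact not_sq_dvd_orderOf P hr z h1
    rw [hio]
    exact (pow_dvd_pow r (show i ≤ 1 by omega)).trans (by rw [pow_one])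
  obtain ⟨G, col, hC⟩ := exists_col H hcomp hsf
    (by rw [Nat.card_congr Additive.toMul]; exact hF64) N hN2 (by
      by_cases h3 : 3 ≤ Nat.card (Pr 2)
      · exact Or.inl (by simp [N, h3])
      refine Or.inr fun m h hh hcube y hy => ?_
      obtain ⟨g, -, -, e⟩ := hh
      have h8 : a ^ (4 * 2) = 1 := by
        by_contra h8
        refine h3 ?_
        have h4 : a ^ 4 ≠ 1 := hsr 2 Nat.prime_two
        let f : Fin 3 → Pr 2 := fun i => ⟨(a ^ (i : ℕ)) ^ sr 2, a ^ (i : ℕ), rfl⟩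
        have hinj : Function.Injective f := by
          intro i j hij
          have h' : (a ^ (i : ℕ)) ^ 4 = (a ^ (j : ℕ)) ^ 4 := congrArg Subtype.val hij
          rw [← pow_mul, ← pow_mul] at h'
          fin_cases i <;> fin_cases j <;> simp at h' <;> first | rfl | exfalso
          all_goals first
            | exact h4 h' | exact h4 h'.symm | exact h8 h' | exact h8 h'.symm
            | exact h4 (by rw [pow_succ' a 7, show (7 : ℕ) = 3 + 4 by rfl] at h'; simpa [pow_add, pow_succ, mul_assoc] using h')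
        simpa using Nat.card_le_card_of_injective f hinj
      have hK9 : Nat.card K = 9 := by
        have h1 := hdvd _ h8
        have h2 : Nat.card K - 1 ≤ 8 := Nat.le_of_dvd (by norm_num) h1
        obtain ⟨j, hj⟩ := hodd
        have h9 : Nat.card K ≤ 9 := by omega
        interval_cases hc : Nat.card K
        all_goals omega
      have h3A : Nat.Coprime (orderOf g) 3 := by
        refine Nat.Coprime.symm ((Nat.Prime.coprime_iff_not_dvd Nat.prime_three).2 fun hd => ?_)
        haveI : Module.Finite K V := Module.Finite.of_finite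
        have hV : 3 ∣ Nat.card V := by
          rw [Module.natCard_eq_pow_finrank (K := K), hK9]
          exact (by norm_num : 3 ∣ 9).trans (dvd_pow_self 9 Module.finrank_pos.ne')
        have := Nat.dvd_gcd (hd.trans (orderOf_dvd_natCard g)) hV
        rw [hcop] at this
        omega
      have hiter : ∀ (i : ℕ) (x : ↥P.M), (⇑h)^[i] (Additive.ofMul (p x)) =
          Additive.ofMul (p (MulAut.conjNormal (g ^ i) x)) := by
        intro i
        induction i with
        | zero => intro x; simp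
        | succ i ih =>
          intro x
          rw [Function.iterate_succ_apply', ih, e, pow_succ' g, map_mul, MulAut.mul_apply]
      have h1 : Function.IsPeriodicPt h (orderOf g) y := by
        obtain ⟨x, hx⟩ := hp y.toMul
        show (⇑h)^[orderOf g] y = y
        rw [show y = Additive.ofMul (p x) by rw [hx]; rfl, hiter, pow_orderOf_eq_one, map_one]
        rfl
      have h2 : Function.IsPeriodicPt h 3 y := hcube y hy
      have h12 := h1.gcd h2
      rw [h3A] at h12
      exact h12)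
  -- the scalars realising the colours
  have hroot : ∀ r : ℕ, r.Prime → ∃ f : ℕ → Kˣ, (∀ k, f k ∈ Pr r) ∧
      ∀ k ≤ N r, ∀ k' ≤ N r, 0 < k → 0 < k' → f k = f k' → k = k' := by
    intro r hr
    haveI := Fintype.ofFinite (Pr r)
    obtain ⟨f⟩ : Nonempty (Fin (N r) ↪ Pr r) := by
      refine Function.Embedding.nonempty_of_card_le ?_
      rw [Fintype.card_fin, ← Nat.card_eq_fintype_card]
      exact hNle r hr
    have hpos : 0 < N r := (hN2 r hr).trans_lt' two_pos
    refine ⟨fun k => (f ⟨(k - 1) % N r, Nat.mod_lt _ hpos⟩ : Kˣ), fun k => SetLike.coe_mem _,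
      fun k hk k' hk' h0 h0' h => ?_⟩
    have h1 := congrArg Fin.val (f.injective (Subtype.ext h))
    simp only at h1
    rw [Nat.mod_eq_of_lt (by omega), Nat.mod_eq_of_lt (by omega)] at h1
    omega
  choose! f hfP hfinj using hroot
  let ρ : ∀ (y : P.W ⧸ Dw) (r : ℕ) (_ : r.Prime ∧ y ^ r = 1), Kˣ := fun y r hr =>
    P.χ ⟨_, hXr y r hr.1 hr.2⟩
  have hscal : ∀ y : P.W ⧸ Dw, ∃ c : K, (c = 0 ↔ col (Additive.ofMul y) = 0) ∧
      ∀ (r : ℕ) (hr : r.Prime ∧ y ^ r = 1), y ≠ 1 → col (Additive.ofMul y) ≠ 0 →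
        ∃ u : Kˣ, (u : K) = c ∧ u ^ sr r * ρ y r hr ^ mr r =
          (QuotientGroup.mk (ρ y r hr ^ mr r) : Kˣ ⧸ Pr r).out * f r (col (Additive.ofMul y)) := by
    intro y
    by_cases hz : col (Additive.ofMul y) = 0
    · exact ⟨0, iff_of_true rfl hz, fun r _ _ h => absurd hz h⟩
    by_cases hpr : y ≠ 1 ∧ ∃ r : ℕ, r.Prime ∧ y ^ r = 1
    swap
    · exact ⟨1, iff_of_false one_ne_zero hz, fun r hr h1 _ => absurd ⟨h1, r, hr⟩ hpr⟩
    obtain ⟨hy1, r, hr⟩ := hpr
    obtain ⟨p0, hp0⟩ : ∃ p0 : Pr r, (QuotientGroup.mk (ρ y r hr ^ mr r) : Kˣ ⧸ Pr r).out =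
        ρ y r hr ^ mr r * p0 := QuotientGroup.mk_out_eq_mul _ _
    obtain ⟨u, hu⟩ : ∃ u : Kˣ, u ^ sr r = (p0 : Kˣ) * f r (col (Additive.ofMul y)) :=
      MonoidHom.mem_range.1 ((Pr r).mul_mem p0.2 (hfP r hr.1 _))
    refine ⟨u, iff_of_false (Units.ne_zero u) hz, fun r' hr' _ _ => ?_⟩
    haveI := Fact.mk hr.1
    haveI := Fact.mk hr'.1
    obtain rfl : r' = r := (orderOf_eq_prime hr'.2 hy1).symm.trans (orderOf_eq_prime hr.2 hy1)
    exact ⟨u, rfl, by rw [hu, hp0, mul_comm ((p0 : Kˣ) * f r' _), ← mul_assoc]⟩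
  choose cK hcK0 hcKr using hscal
  let ev : P.W ⧸ Dw → V := fun y => if y = 1 then al • v + be • (w • v) else cK y • v
  have hevE : ∀ y, ev y ∈ E := fun y => by
    simp only [ev]
    split_ifs
    · exact E.add_mem (E.smul_mem _ hvE) (E.smul_mem _ hwvE)
    · exact E.smul_mem _ hvE
  refine ⟨v, ∑ y, (X y : A) • ev y, fun g hgv hg2 => ?_⟩
  suffices hg1 : g = 1 by intro t; rw [hg1, one_smul]
  have hgvi : g⁻¹ • v = v := by rw [inv_smul_eq_iff, hgv]
  have hgE : ∀ x ∈ E, g • x ∈ E := by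
    intro x hx l
    have hl' : g⁻¹ * l * g ∈ L := by simpa using hconjL g⁻¹ hgvi l l.2
    have key : ∀ y ∈ E, g • y = g • y → (l : A) • g • y = σ g (lam ⟨_, hl'⟩ : Kˣ) • g • y := by
      intro y hy _
      rw [← hσ, ← hy ⟨_, hl'⟩, ← mul_smul, ← mul_smul]
      congr 1
      show (l : A) * g = g * (g⁻¹ * l * g)
      group
    have h1 := key v hvE rfl
    rw [hgv, hlam l] at h1
    rw [key x hx rfl, ← smul_left_injective K hv h1]
  -- the induced map on the cosets
  let c : ↥P.M ≃* ↥P.M := MulAut.conjNormal g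
  have hcc : ∀ x : ↥P.M, ((c x : ↥P.M) : A) = g * x * g⁻¹ := fun x => MulAut.conjNormal_apply g x
  have hDconj : Dw.map ((P.conj g).toMonoidHom) = Dw := by
    refine Subgroup.eq_of_le_of_card_ge ?_
      (Nat.card_congr (Dw.equivMapOfInjective _ (P.conj g).injective).toEquiv).le
    rintro _ ⟨y, hy, rfl⟩
    obtain ⟨⟨x, hx⟩, rfl⟩ := QuotientGroup.mk_surjective y
    show π P (c ⟨x, hx⟩) ∈ Dw
    rw [show c ⟨x, hx⟩ = ⟨g * x * g⁻¹, hMn hx⟩ from Subtype.ext (hcc _)]
    exact (hmemD _).2 (hpg g hgv hx ((hmemD hx).1 hy))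
  let hm : P.W ⧸ Dw ≃* P.W ⧸ Dw := QuotientGroup.congr Dw Dw (P.conj g) hDconj
  have hmp : ∀ x : ↥P.M, hm (p x) = p (c x) := fun x => rfl
  let d : P.W ⧸ Dw → ↥P.M := fun y => (X (hm y))⁻¹ * c (X y)
  have hdp : ∀ y, ∀ l ∈ L, l * (d y : A) = (d y : A) * l := fun y => (hpone (d y).2).1 (by
    rw [show (⟨(d y : A), (d y).2⟩ : ↥P.M) = d y from rfl]
    simp only [d]
    rw [map_mul, map_inv, hX, ← hmp, hX, inv_mul_cancel])
  have hgX : ∀ y (x : V), g • (X y : A) • x = (X (hm y) : A) • ((d y : A) • g • x) := by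
    intro y x
    rw [← mul_smul, ← mul_smul, ← mul_smul]
    congr 1
    simp only [d, Subgroup.coe_mul, Subgroup.coe_inv, hcc]
    group
  have hev : ∀ y, ev (hm y) = (d y : A) • g • ev y := by
    intro y
    have h1 : g • ∑ y, (X y : A) • ev y =
        ∑ y, (X y : A) • ((d (hm.symm y) : A) • g • ev (hm.symm y)) := by
      rw [Finset.smul_sum]
      refine Fintype.sum_equiv hm.toEquiv _ _ fun z => ?_
      show _ = (X (hm z) : A) • ((d (hm.symm (hm z)) : A) • g • ev (hm.symm (hm z)))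
      rw [hm.symm_apply_apply, hgX]
    rw [h1] at hg2
    have h2 := huniq _ _ (fun y => hEcomm _ (d (hm.symm y)).2 (hdp _) _ (hgE _ (hevE _))) hevE hg2 (hm y)
    rw [hm.symm_apply_apply] at h2
    exact h2.symm
  have hd1 : (d 1 : A) = 1 := by
    simp only [d, map_one, hX1 1 rfl, inv_one, one_mul, Subgroup.coe_one]
  have he1 : g • (al • v + be • (w • v)) = al • v + be • (w • v) := by
    have h := hev 1
    rw [map_one, hd1, one_smul] at h
    simp only [ev, if_true] at h
    exact h.symm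
  obtain ⟨hσ1, hgwv⟩ := hpoint g hgv he1
  have hgC : g ∈ P.C := hker g hσ1
  have hone : ∀ y, hm y = 1 ↔ y = 1 := fun y => by
    constructor
    · intro h; exact hm.injective (h.trans (map_one hm).symm)
    · rintro rfl; exact map_one hm
  have hcv : ∀ y, y ≠ 1 → cK (hm y) • v = cK y • ((d y : A) • v) := by
    intro y hy
    have h := hev y
    simp only [ev, if_neg hy, if_neg (fun h' => hy ((hone y).1 h'))] at h
    rw [P.linear g hgC, hgv, hML (d y).2] at h
    exact h
  have hdv0 : ∀ y, (d y : A) • v ≠ 0 := fun y h0 => hv ((smul_eq_zero_iff_eq _).1 h0)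
  -- the colours are preserved
  have hzero : ∀ y, y ≠ 1 → (col (Additive.ofMul (hm y)) = 0 ↔ col (Additive.ofMul y) = 0) := by
    intro y hy
    rw [← hcK0, ← hcK0]
    constructor
    · intro h0
      have h := hcv y hy
      rw [h0, zero_smul, eq_comm, smul_eq_zero] at h
      exact h.resolve_right (hdv0 y)
    · intro h0
      have h := hcv y hy
      rw [h0, zero_smul, smul_eq_zero] at h
      exact h.resolve_right hv
  have hdL : ∀ y, col (Additive.ofMul y) ≠ 0 → (d y : A) ∈ L := by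
    intro y hy
    by_cases h1 : y = 1
    · rw [h1, hd1]; exact L.one_mem
    have hc0 : cK y ≠ 0 := fun h => hy ((hcK0 y).1 h)
    refine hmemL _ (d y).2 ((cK y)⁻¹ * cK (hm y)) ?_
    rw [mul_smul, hcv y h1, inv_smul_smul₀ hc0]
  have hcol : ∀ y : P.W ⧸ Dw, col (Additive.ofMul (hm y)) = col (Additive.ofMul y) := by
    intro y
    by_cases h1 : y = 1
    · rw [h1, map_one]
    by_cases hpr : ∃ r : ℕ, r.Prime ∧ y ^ r = 1
    swap
    · rw [hC.one (Additive.ofMul (hm y)) fun r hr hry => hpr ⟨r, hr, hm.injective (by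
          rw [map_pow, map_one]; exact ofMul_eq_zero.1 (by rw [ofMul_pow]; exact hry))⟩,
        hC.one (Additive.ofMul y) fun r hr hry => hpr ⟨r, hr,
          ofMul_eq_zero.1 (by rw [ofMul_pow]; exact hry)⟩]
    obtain ⟨r, hr⟩ := hpr
    have hr' : r.Prime ∧ hm y ^ r = 1 := ⟨hr.1, by rw [← map_pow, hr.2, map_one]⟩
    by_cases hz : col (Additive.ofMul y) = 0
    · rw [hz, hzero y h1, hz]
    have hz' : col (Additive.ofMul (hm y)) ≠ 0 := fun h => hz ((hzero y h1).1 h)
    obtain ⟨u, hu, hIu⟩ := hcKr y r hr h1 hz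
    obtain ⟨u', hu', hIu'⟩ := hcKr (hm y) r hr' (fun h => h1 ((hone y).1 h)) hz'
    set l : ↥L := ⟨(d y : A), hdL y hz⟩
    have hl : u' = lam l * u := by
      refine Units.ext (smul_left_injective K hv ?_)
      show (u' : K) • v = ((lam l * u : Kˣ) : K) • v
      rw [hu', hcv y h1, show (d y : A) • v = ((lam l : Kˣ) : K) • v from hlam l, smul_smul,
        Units.val_mul, hu, mul_comm]
    have hρ : ρ y r hr ^ mr r = (lam l ^ r * ρ (hm y) r hr') ^ mr r := by
      set x' := (X (hm y) : A) with hx'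
      set dd := (d y : A) with hdd
      have hx'M : x' ∈ P.M := (X (hm y)).2
      set z := ⁅dd, x'⁆ with hz0
      have hzZ : z ∈ P.Z := P.good.comm _ (d y).2 _ hx'M
      have hzr : (P.χ ⟨z, hzZ⟩) ^ r = 1 := by
        rw [show P.χ ⟨z, hzZ⟩ = P.form (π P (d y)) (π P (X (hm y))) from rfl, ← map_pow, ← map_pow,
          show (X (hm y)) ^ r = ⟨x' ^ r, pow_mem hx'M r⟩ from rfl,
          (π_eq_one P (pow_mem hx'M r)).2 (hXr _ r hr'.1 hr'.2), map_one]
      have hzm : (P.χ ⟨z, hzZ⟩) ^ (r.choose 2 * mr r) = 1 := by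
        obtain ⟨j, hj⟩ : r ∣ r.choose 2 * mr r := by
          by_cases h2 : r = 2
          · subst h2; simp [mr]
          · exact dvd_mul_of_dvd_left (Nat.Prime.dvd_choose_self hr.1 (by norm_num)
              (lt_of_le_of_ne hr.1.two_le (Ne.symm h2))) _
        rw [hj, pow_mul, hzr, one_pow]
      have hconj : g * (X y : A) * g⁻¹ = x' * dd := by
        rw [hdd, hx']
        simp only [d, Subgroup.coe_mul, Subgroup.coe_inv, hcc, mul_inv_cancel_left]
      have heq : (X y : A) ^ r = z ^ r.choose 2 * (x' ^ r * dd ^ r) := by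
        rw [← mul_pow_of_central (z := z) (by rw [hz0, commutatorElement_def]; group)
          (P.hcen z hzZ x' hx'M).symm (P.hcen z hzZ dd (d y).2).symm r, ← hconj, conj_pow,
          P.commute_Z (hXr y r hr.1 hr.2) hgC, mul_inv_cancel_right]
      have h : lam ⟨_, hZL (hXr y r hr.1 hr.2)⟩ = lam (⟨z, hZL hzZ⟩ ^ r.choose 2 *
          (⟨_, hZL (hXr (hm y) r hr'.1 hr'.2)⟩ * l ^ r)) := congrArg lam (Subtype.ext heq)
      rw [map_mul, map_mul, map_pow, map_pow, hlamZ _ (hXr y r hr.1 hr.2), hlamZ _ hzZ,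
        hlamZ _ (hXr (hm y) r hr'.1 hr'.2)] at h
      show P.χ _ ^ mr r = (lam l ^ r * P.χ _) ^ mr r
      rw [h, mul_pow, ← pow_mul, hzm, one_mul, mul_comm (lam l ^ r)]
    have hI : u' ^ sr r * ρ (hm y) r hr' ^ mr r = u ^ sr r * ρ y r hr ^ mr r := by
      rw [hρ, hl]
      simp only [sr]
      rw [mul_pow, mul_pow, pow_mul (lam l)]
      generalize (lam l ^ r) ^ mr r = s₁
      generalize u ^ (r * mr r) = s₂
      generalize ρ (hm y) r hr' ^ mr r = s₃
      rw [mul_comm s₁ s₂, mul_assoc, mul_comm s₁ s₃, ← mul_assoc]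
    rw [hIu, hIu'] at hI
    have hmem : ∀ (b : Kˣ) (k : ℕ),
        (QuotientGroup.mk ((QuotientGroup.mk b : Kˣ ⧸ Pr r).out * f r k) : Kˣ ⧸ Pr r) =
          QuotientGroup.mk b := fun b k => by
      rw [QuotientGroup.mk_mul, (QuotientGroup.eq_one_iff _).2 (hfP r hr.1 k), mul_one, QuotientGroup.out_eq']
    have hq' := congrArg (fun t => (QuotientGroup.mk t : Kˣ ⧸ Pr r)) hI
    simp only [hmem] at hq'
    rw [hq'] at hI
    have hle : ∀ y : P.W ⧸ Dw, y ≠ 1 → y ^ r = 1 → col (Additive.ofMul y) ≤ N r := fun y hy hyr =>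
      hC.le r hr.1 _ (fun h => hy ((ofMul_eq_zero).1 h)) (by rw [← ofMul_pow, hyr]; rfl)
    exact hfinj r hr.1 _ (hle _ (fun h => h1 ((hone y).1 h)) hr'.2) _ (hle _ h1 hr.2)
      (Nat.pos_of_ne_zero hz') (Nat.pos_of_ne_zero hz) (mul_left_cancel hI)
  have hid : ∀ y, hm y = y := fun y => Additive.ofMul.injective
    (hC.rigid (MulEquiv.toAdditive hm) ⟨g, hgv, hgC, fun x => rfl⟩ (fun y => hcol y.toMul)
      (Additive.ofMul y))
  have hdv : ∀ y, col (Additive.ofMul y) ≠ 0 → (d y : A) • v = v := by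
    intro y hy
    by_cases h1 : y = 1
    · rw [h1, hd1, one_smul]
    have h := hcv y h1
    rw [hid] at h
    exact (smul_right_injective V (fun h0 => hy ((hcK0 y).1 h0)) h).symm
  have hfixX : ∀ y, col (Additive.ofMul y) ≠ 0 →
      g • (X y : A) • v = (X y : A) • v ∧ g • (X y : A) • w • v = (X y : A) • w • v := by
    intro y hy
    refine ⟨by rw [hgX, hid, hgv, hdv y hy], ?_⟩
    rw [hgX, hid, hgwv, ← mul_smul (d y : A), hcw _ (hdL y hy), mul_smul, hdv y hy]
  -- elements fixing everything in sight are trivial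
  have hgen : ∀ T : Subgroup A, (∀ x ∈ P.M, (∀ l ∈ L, l * x = x * l) → x ∈ T) →
      (∀ y, Additive.ofMul y ∈ G → (X y : A) ∈ T) → P.M ≤ T := by
    intro T hT1 hT2 x hx
    have hcl : Additive.ofMul (p ⟨x, hx⟩) ∈
        Subgroup.toAddSubgroup ((T.subgroupOf P.M).map p) := by
      refine (AddSubgroup.closure_le _).2 ?_ (hC.closure_eq ▸ AddSubgroup.mem_top _)
      intro z hz
      exact ⟨X z.toMul, hT2 _ hz, hX _⟩
    obtain ⟨⟨x', hx'⟩, hx'T, hxx⟩ := hcl
    have h1 : p ⟨x'⁻¹ * x, mul_mem (inv_mem hx') hx⟩ = 1 := by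
      rw [show (⟨x'⁻¹ * x, _⟩ : ↥P.M) = ⟨x', hx'⟩⁻¹ * ⟨x, hx⟩ from rfl, map_mul, map_inv, inv_mul_eq_one]
      exact hxx
    have := T.mul_mem (show x' ∈ T from hx'T) (hT1 _ (mul_mem (inv_mem hx') hx) ((hpone _).1 h1))
    rwa [mul_inv_cancel_left] at this
  have hkill : ∀ δ ∈ P.M, δ • v = v →
      (∀ y, Additive.ofMul y ∈ G → δ • (X y : A) • v = (X y : A) • v) → δ = 1 := by
    intro δ hδ hδv hδX
    have hδL : δ ∈ L := hmemL δ hδ 1 (by rw [one_smul, hδv])
    have hZ : δ ∈ P.Z := by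
      refine P.good.center δ hδ fun x hx => ?_
      have hle : P.M ≤ Subgroup.centralizer {δ} := hgen _
        (fun x hx hcx => Subgroup.mem_centralizer_singleton_iff.2 (hcx δ hδL).symm) (fun y hy => by
          have h1 := P.smul_smul_eq hδ (X y).2 v
          rw [hδX y hy, hδv] at h1
          have hne : (X y : A) • v ≠ 0 := fun h => hv ((smul_eq_zero_iff_eq _).1 h)
          have h2 : ((P.form (π P ⟨δ, hδ⟩) (π P (X y)) : Kˣ) : K) = 1 :=
            smul_left_injective K hne (h1.symm.trans (one_smul K _).symm)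
          exact Subgroup.mem_centralizer_singleton_iff.2
            ((form_eq_one_iff P hδ (X y).2).1 (Units.val_eq_one.1 h2)).symm)
      exact (Subgroup.mem_centralizer_singleton_iff.1 (hle hx)).symm
    by_cases h1 : (⟨δ, hZ⟩ : ↥P.Z) = 1
    · exact congrArg Subtype.val h1
    · exact absurd (P.fix_Z h1 hδv) hv
  have hGfix : ∀ y, Additive.ofMul y ∈ G → g • (X y : A) • v = (X y : A) • v := fun y hy =>
    (hfixX y (hC.ne _ hy)).1
  have hcd : ∀ x ∈ P.M, (∀ l ∈ L, l * x = x * l) → g * x = x * g := by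
    intro x hx hcx
    have hgx : g • x • v = x • v := by
      obtain ⟨α, β, h1⟩ := hspan x hx hcx
      rw [h1, smul_add, P.linear g hgC, P.linear g hgC, hgv, hgwv]
    suffices h1 : x⁻¹ * (g * x * g⁻¹) = 1 from mul_inv_eq_iff_eq_mul.1 (inv_mul_eq_one.1 h1).symm
    refine hkill _ (mul_mem (inv_mem hx) (hMn hx)) ?_ fun y hy => ?_
    · rw [mul_smul, mul_smul, mul_smul, hgvi, hgx, inv_smul_smul]
    · rw [mul_smul, mul_smul, mul_smul, (inv_smul_eq_iff.2 (hGfix y hy).symm : g⁻¹ • (X y : A) • v = _),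
        inv_smul_eq_iff, P.smul_smul_eq hx (X y).2 v, P.linear g hgC]
      obtain ⟨α, β, h1⟩ := hspan x hx hcx
      rw [h1, smul_add (X y : A), hML (X y).2, hML (X y).2, smul_add g, P.linear g hgC, P.linear g hgC,
        (hfixX y (hC.ne _ hy)).1, (hfixX y (hC.ne _ hy)).2]
  have hdG : ∀ y, Additive.ofMul y ∈ G → (d y : A) = 1 := by
    intro y hy
    refine hkill _ (d y).2 (hdv y (hC.ne _ hy)) fun z hz => ?_
    have hyz : col (Additive.ofMul (y * z)) ≠ 0 := hC.add _ hy _ hz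
    let e : ↥P.M := (X (y * z))⁻¹ * (X y * X z)
    have he : p e = 1 := by simp only [e, map_mul, map_inv, hX, inv_mul_cancel]
    obtain ⟨α, β, h1⟩ := hspan e e.2 ((hpone e.2).1 he)
    have h2 : (X y : A) • (X z : A) • v = (X (y * z) : A) • (e : A) • v := by
      rw [← mul_smul, ← mul_smul]
      congr 1
      simp only [e, Subgroup.coe_mul, Subgroup.coe_inv, mul_inv_cancel_left]
    have h3 : g • (X y : A) • (X z : A) • v = (X y : A) • (X z : A) • v := by
      rw [h2, h1, smul_add (X (y * z) : A), hML (X (y * z)).2, hML (X (y * z)).2, smul_add g,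
        P.linear g hgC, P.linear g hgC, (hfixX _ hyz).1, (hfixX _ hyz).2]
    rw [hgX, hid, hGfix z hz] at h3
    exact smul_left_cancel _ h3
  have hM : P.M ≤ Subgroup.centralizer {g} := hgen _
    (fun x hx hcx => Subgroup.mem_centralizer_singleton_iff.2 (hcd x hx hcx).symm) fun y hy => by
      have h1 : g * (X y : A) * g⁻¹ = X y := by
        have h2 := hdG y hy
        simp only [d, hid, Subgroup.coe_mul, Subgroup.coe_inv, hcc, inv_mul_eq_one] at h2
        exact h2.symm
      exact Subgroup.mem_centralizer_singleton_iff.2 (mul_inv_eq_iff_eq_mul.1 h1).symm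
  have hgZ : g ∈ P.Z := P.cent g hgC fun y hy =>
    (Subgroup.mem_centralizer_singleton_iff.1 (hM hy)).symm
  by_cases h1 : (⟨g, hgZ⟩ : ↥P.Z) = 1
  · exact congrArg Subtype.val h1
  · exact absurd (P.fix_Z h1 hgv) hv

end Cfsg.Agent.CoprimeBase.Colour
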