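/-!
# Rigid colourings and swap choices in spaces of dimension at most five over two elements

* `rigidCheck`: no linear map but the identity preserves the colours.
* `swapCheck`: no family with one transposition of each basis avoids products of order three.
-/

set_option autoImplicit false

namespace Cfsg.Agent.CoprimeBase.Colour

/-- The colour of a word. -/
def colAt (col : List Nat) (w : Nat) : Nat := col.getD w 0

/-- Extending a partial linear map by one pair. -/
def extend (sp : List (Nat × Nat)) (d w : Nat) : List (Nat × Nat) :=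
  sp ++ sp.map fun e => (e.1 ^^^ d, e.2 ^^^ w)

/-- The search for colour preserving maps. -/
def rigidGo (n : Nat) (col : List Nat) : List Nat → List (Nat × Nat) → Bool
  | [], sp => sp.all fun e => e.1 == e.2
  | d :: ds, sp => (List.range (2 ^ n)).all fun w =>
      !(colAt col w == colAt col d) ||
      sp.any (fun e => e.2 == w && !(e.1 == d)) ||
      !(sp.all fun e => colAt col (e.2 ^^^ w) == colAt col (e.1 ^^^ d)) ||
      rigidGo n col ds (extend sp d w)

/-- The unit words. -/
def units (n : Nat) : List Nat := (List.range n).map (2 ^ ·)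

/-- A colouring is fine: nonzero at the zero word, at the unit words and at their sums. -/
def colOK (n bound : Nat) (col : List Nat) : Bool :=
  colAt col 0 == 1 &&
    (List.range (2 ^ n)).all (fun w => decide (colAt col w ≤ bound)) &&
    (units n).all (fun a => colAt col a != 0 && (units n).all fun b => colAt col (a ^^^ b) != 0)

/-- The check. -/
def rigidCheck (n bound : Nat) (col : List Nat) : Bool :=
  colOK n bound col && rigidGo n col (units n) [(0, 0)]

/-- The chosen colourings. -/
def table : Nat → List Nat
  | 1 => [1, 1]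
  | 2 => [1, 1, 2, 3]
  | 3 => [1, 1, 2, 3, 3, 3, 3, 0]
  | 4 => [1, 2, 1, 2, 1, 1, 2, 2, 2, 2, 1, 2, 2, 0, 0, 0]
  | 5 => [1, 2, 1, 2, 2, 2, 1, 0, 1, 2, 1, 1, 2, 0, 1, 2, 1, 2, 2, 2, 2, 2, 0, 0, 1, 0, 0, 0, 0, 2, 0, 1]
  | _ => [1]

/-- Colours needed. -/
def bound : Nat → Nat
  | 2 => 3
  | 3 => 3
  | _ => 2

theorem table_ok : (List.range 6).all (fun n => rigidCheck n (bound n) (table n)) = true := by
  decide +kernel

/-- All bases up to order. -/
def basesOf : Nat → List (List Nat)
  | 2 => [[1, 2], [1, 3], [2, 3]]
  | 3 => [[1,2,4], [1,2,5], [1,2,6], [1,2,7], [1,3,4], [1,3,5], [1,3,6], [1,3,7], [1,4,6], [1,4,7],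
      [1,5,6], [1,5,7], [2,3,4], [2,3,5], [2,3,6], [2,3,7], [2,4,5], [2,4,7], [2,5,6], [2,6,7],
      [3,4,5], [3,4,6], [3,5,7], [3,6,7], [4,5,6], [4,5,7], [4,6,7], [5,6,7]]
  | _ => []

/-- The linear map with the given values on a basis. -/
def mapOf (src dst : List Nat) : List (Nat × Nat) :=
  (src.zip dst).foldl (fun sp e => extend sp e.1 e.2) [(0, 0)]

/-- The image of a word. -/
def imgOf (sp : List (Nat × Nat)) (w : Nat) : Nat :=
  match sp.find? fun e => e.1 == w with
  | some e => e.2
  | none => 0

/-- The list of images. -/
def tableOf (n : Nat) (sp : List (Nat × Nat)) : List Nat := (List.range (2 ^ n)).map (imgOf sp)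

/-- The transpositions of a basis. -/
def swaps : List Nat → List (List Nat)
  | [a, b] => [[b, a]]
  | [a, b, c] => [[b, a, c], [c, b, a], [a, c, b]]
  | _ => []

/-- The composite of two maps. -/
def comp (f g : List Nat) : List Nat := g.map fun w => f.getD w 0

/-- A map of order three. -/
def orderThree (n : Nat) (u : List Nat) : Bool :=
  u != List.range (2 ^ n) && comp u (comp u u) == List.range (2 ^ n)

/-- The search for compatible choices. -/
def swapGo (n : Nat) : List (List Nat) → List (List Nat) → Bool
  | [], _ => false
  | b :: bs, ch => (swaps b).all fun d =>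
      let t := tableOf n (mapOf b d)
      ch.any (fun s => orderThree n (comp t s)) || swapGo n bs (t :: ch)

/-- The bases are bases. -/
def basesOK (n : Nat) : Bool :=
  (basesOf n).all fun b => b.length == n && (mapOf b b).length == 2 ^ n &&
    (List.range (2 ^ n)).all fun w => (mapOf b b).any fun e => e.1 == w

/-- The check. -/
def swapCheck (n : Nat) : Bool := basesOK n && swapGo n (basesOf n) []

theorem swap_ok : swapCheck 2 = true ∧ swapCheck 3 = true := by decide +kernel

end Cfsg.Agent.CoprimeBase.Colour
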