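import Cfsg.Agent.Lib.CoprimeBase.Colour.Colouring
import Cfsg.Agent.Lib.BaseThree.Colour
import Cfsg.Agent.Lib.BaseThree.Main
import Mathlib.LinearAlgebra.Dimension.Constructions

/-!
# Three colours for solvable groups of order prime to three

* `exists_rigid_set`: if three vectors have trivial common stabiliser and three does not divide the order
  of the group, some set of vectors avoiding zero is preserved only by what fixes everything.
* `exists_three_colourings`: such a group acting on finitely many points has three pairwise inequivalent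
  colourings with three colours, each fixed only by what fixes every point.
-/

set_option autoImplicit false
set_option linter.style.haveILetI false
set_option linter.unusedSectionVars false

namespace Cfsg.Agent.CoprimeBase.Colour

open OddBaseTwo BaseThree MulAction

universe u v

section Rigid

variable {H : Type u} [Group H] [Finite H] {F : Type v} [AddCommGroup F] [Finite F]
  [DistribMulAction H F]

/-- Without elements of order three there are no three-cycles. -/
theorem smul_eq_of_cube (h3 : ¬ 3 ∣ Nat.card H) {g : H} {x : F} (hx : g • g • g • x = x) :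
    g • x = x := by
  have hco : (orderOf g).Coprime 3 := ((Nat.prime_three.coprime_iff_not_dvd).2
    fun h => h3 (h.trans (orderOf_dvd_natCard g))).symm
  obtain ⟨m, hm⟩ := exists_pow_eq_self_of_coprime (x := g) hco.symm
  have h1 : g ^ 3 ∈ stabilizer H x := by
    rw [mem_stabilizer_iff, show g ^ 3 = g * (g * g) by simp [pow_succ, mul_assoc], mul_smul, mul_smul, hx]
  have h2 := (stabilizer H x).pow_mem h1 m
  rwa [hm] at h2

/-- Of `{u, v}` and `{u, u + v}` one admits no interchange. -/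
theorem no_swap (h3 : ¬ 3 ∣ Nat.card H) {u v : F} (huv : u ≠ v) (w : F) :
    (∀ h : H, h • w = w → h • u = v → h • v = u → False) ∨
      ∀ h : H, h • w = w → h • u = u + v → h • (u + v) = u → False := by
  by_contra hc
  push Not at hc
  obtain ⟨⟨h, hw, hu, hv, -⟩, g, gw, gu, gv, -⟩ := hc
  have gv' : g • v = -v := by
    rw [smul_add, gu] at gv
    have : g • v = u - (u + v) := eq_sub_of_add_eq' gv
    rw [this]; abel
  set k := (h * g) * (h * g)
  have e1 : (h * g) • u = u + v := by rw [mul_smul, gu, smul_add, hu, hv, add_comm]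
  have e2 : (h * g) • v = -u := by rw [mul_smul, gv', smul_neg, hv]
  have k1 : k • u = v := by
    simp only [k, mul_smul (h * g), e1, smul_add, e2]
    abel
  have k2 : k • v = -(u + v) := by
    simp only [k, mul_smul (h * g), e2, smul_neg, e1]
  have k3 : k • k • k • u = u := by
    rw [k1, k2, smul_neg, smul_add, k1, k2]
    abel
  exact huv ((smul_eq_of_cube h3 k3).symm.trans k1)

section Lin

variable {r : ℕ} [Fact r.Prime] [Module (ZMod r) F]

theorem smul_zmod (h : H) (a : ZMod r) (x : F) : h • (a • x) = a • h • x :=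
  ZMod.map_smul (DistribSMul.toAddMonoidHom F h) a x

theorem sum_fixed {d : ℕ} {e : Fin d → F} {h : H} (he : ∀ i, h • e i = e i) (c : Fin d → ZMod r) :
    h • ∑ i, c i • e i = ∑ i, c i • e i := by
  rw [Finset.smul_sum]
  exact Finset.sum_congr rfl fun i _ => by rw [smul_zmod, he i]

theorem rigid_two (h3 : ¬ 3 ∣ Nat.card H) {u v : F} (hu : u ≠ 0) (hv : v ≠ 0) (huv : u ≠ v)
    (huv' : u + v ≠ 0) (hker : ∀ h : H, h • u = u → h • v = v → ∀ z : F, h • z = z) :
    ∃ S : Set F, (0 : F) ∉ S ∧ ∀ h : H, (∀ x ∈ S, h • x ∈ S) → ∀ z : F, h • z = z := by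
  obtain ⟨v', hv', huv'', hker', hno⟩ : ∃ v', v' ≠ 0 ∧ u ≠ v' ∧
      (∀ h : H, h • u = u → h • v' = v' → ∀ z : F, h • z = z) ∧
      ∀ h : H, h • u = v' → h • v' = u → False := by
    rcases no_swap h3 huv (0 : F) with h | h
    · exact ⟨v, hv, huv, hker, fun g a b => h g (smul_zero g) a b⟩
    · refine ⟨u + v, huv', fun e => hv (left_eq_add.1 e), fun g a b => hker g a ?_,
        fun g a b => h g (smul_zero g) a b⟩
      rw [smul_add, a] at b
      exact add_left_cancel b
  refine ⟨{u, v'}, by simp [Ne.symm hu, Ne.symm hv'], fun h hS => ?_⟩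
  have h1 := hS u (Or.inl rfl)
  have h2 := hS v' (Or.inr rfl)
  simp only [Set.mem_insert_iff, Set.mem_singleton_iff] at h1 h2
  rcases h1 with h1 | h1 <;> rcases h2 with h2 | h2
  · exact absurd (smul_left_cancel h (h1.trans h2.symm)) huv''
  · exact hker' h h1 h2
  · exact (hno h h1 h2).elim
  · exact absurd (smul_left_cancel h (h1.trans h2.symm)) huv''

/-- Three elements without interchanges. -/
theorem rigid_perm (h3 : ¬ 3 ∣ Nat.card H) {u v w : F} (huv : u ≠ v) (huw : u ≠ w) (hvw : v ≠ w)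
    (s1 : ∀ h : H, h • u = v → h • v = u → h • w = w → False)
    (s2 : ∀ h : H, h • u = w → h • v = v → h • w = u → False)
    (s3 : ∀ h : H, h • u = u → h • v = w → h • w = v → False)
    (hker : ∀ h : H, h • u = u → h • v = v → h • w = w → ∀ z : F, h • z = z) (h : H)
    (hS : ∀ x ∈ ({u, v, w} : Set F), h • x ∈ ({u, v, w} : Set F)) : ∀ z : F, h • z = z := by
  have i1 : ∀ {a b : F}, a ≠ b → h • a ≠ h • b := fun ne e => ne (smul_left_cancel h e)
  have hu := hS u (Or.inl rfl)
  have hv := hS v (Or.inr (Or.inl rfl))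
  have hw := hS w (Or.inr (Or.inr rfl))
  simp only [Set.mem_insert_iff, Set.mem_singleton_iff] at hu hv hw
  rcases hu with a | a | a <;> rcases hv with b | b | b <;> rcases hw with c | c | c
  all_goals first
    | exact absurd (a.trans b.symm) (i1 huv)
    | exact absurd (a.trans c.symm) (i1 huw)
    | exact absurd (b.trans c.symm) (i1 hvw)
    | exact hker h a b c
    | exact (s1 h a b c).elim
    | exact (s2 h a b c).elim
    | exact (s3 h a b c).elim
    | exact absurd ((smul_eq_of_cube h3 (show h • h • h • u = u by rw [a, b, c])).symm.trans a) huv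
    | exact absurd ((smul_eq_of_cube h3 (show h • h • h • u = u by rw [a, c, b])).symm.trans a) huw

/-- The coordinates of `u, v, w, u + v`. -/
def coordsN : Fin 4 → Fin 3 → ℕ := ![![1, 0, 0], ![0, 1, 0], ![0, 0, 1], ![1, 1, 0]]

/-- The coordinates of `u, v, w, u + v` modulo `r`. -/
def coords (r : ℕ) (i : Fin 4) (t : Fin 3) : ZMod r := (coordsN i t : ℕ)

theorem coords_cast (h2 : (2 : ZMod r) ≠ 0) {a b : ℕ} (ha : a ≤ 2) (hb : b ≤ 2)
    (e : (a : ZMod r) = b) : a = b := by
  have hr : 2 < r := by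
    have := (Fact.out : r.Prime).two_le
    rcases eq_or_ne r 2 with rfl | h
    · exact absurd (show (2 : ZMod 2) = 0 from by exact_mod_cast ZMod.natCast_self 2) h2
    · omega
  rw [ZMod.natCast_eq_natCast_iff', Nat.mod_eq_of_lt (by omega), Nat.mod_eq_of_lt (by omega)] at e
  exact e

theorem coords_inj (h2 : (2 : ZMod r) ≠ 0) (i j : Fin 4) (e : coords r i = coords r j) : i = j := by
  have hb : ∀ i t, coordsN i t ≤ 2 := by decide
  have key : ∀ i j : Fin 4, (∀ t, coordsN i t = coordsN j t) → i = j := by decide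
  exact key i j fun t => coords_cast h2 (hb i t) (hb j t) (congrFun e t)

theorem sum_pairs (h2 : (2 : ZMod r) ≠ 0) (i j k : Fin 4) (hij : i ≠ j)
    (e : coords r i + coords r j = coords r k) : ((i = 0 ∧ j = 1) ∨ (i = 1 ∧ j = 0)) ∧ k = 3 := by
  have hb : ∀ i t, coordsN i t ≤ 1 := by decide
  have key : ∀ i j k : Fin 4, i ≠ j → (∀ t, coordsN i t + coordsN j t = coordsN k t) →
      ((i = 0 ∧ j = 1) ∨ (i = 1 ∧ j = 0)) ∧ k = 3 := by decide
  refine key i j k hij fun t => coords_cast h2 (by have := hb i t; have := hb j t; omega)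
    ((hb k t).trans one_le_two) ?_
  rw [Nat.cast_add]
  exact congrFun e t

theorem rigid_three_odd (h3 : ¬ 3 ∣ Nat.card H) (h2 : (2 : ZMod r) ≠ 0) {u v w : F}
    (hli : ∀ c : Fin 3 → ZMod r, c 0 • u + c 1 • v + c 2 • w = 0 → c = 0)
    (hker : ∀ h : H, h • u = u → h • v = v → h • w = w → ∀ z : F, h • z = z) :
    ∃ S : Set F, (0 : F) ∉ S ∧ ∀ h : H, (∀ x ∈ S, h • x ∈ S) → ∀ z : F, h • z = z := by
  obtain ⟨v', hli', hker', hno⟩ : ∃ v',
      (∀ c : Fin 3 → ZMod r, c 0 • u + c 1 • v' + c 2 • w = 0 → c = 0) ∧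
      (∀ h : H, h • u = u → h • v' = v' → h • w = w → ∀ z : F, h • z = z) ∧
      ∀ h : H, h • w = w → h • u = v' → h • v' = u → False := by
    have huv : u ≠ v := fun e => by
      have := congrFun (hli ![1, -1, 0] (by simp [e])) 0
      simp at this
    rcases no_swap h3 huv w with h | h
    · exact ⟨v, hli, hker, h⟩
    · refine ⟨u + v, fun c hc => ?_, fun g a b d => hker g a ?_ d, h⟩
      · have := hli ![c 0 + c 1, c 1, c 2] (by
          simp only [Matrix.cons_val]
          rw [← hc, smul_add, add_smul]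
          abel)
        have e0 : c 0 + c 1 = 0 := congrFun this 0
        have e1 : c 1 = 0 := congrFun this 1
        have e2 : c 2 = 0 := congrFun this 2
        rw [e1, add_zero] at e0
        funext i
        fin_cases i <;> assumption
      · rw [smul_add, a] at b
        exact add_left_cancel b
  set E : Fin 4 → Fin 3 → ZMod r := coords r with hE
  let val : (Fin 3 → ZMod r) → F := fun c => c 0 • u + c 1 • v' + c 2 • w
  have hval : ∀ c d : Fin 3 → ZMod r, val (c + d) = val c + val d := fun c d => by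
    simp only [val, Pi.add_apply, add_smul]
    abel
  have hinj : ∀ c d : Fin 3 → ZMod r, val c = val d → c = d := fun c d e => by
    refine sub_eq_zero.1 (hli' (c - d) ?_)
    have e' := sub_eq_zero.2 e
    simp only [val, Pi.sub_apply, sub_smul] at e' ⊢
    rw [← e']
    abel
  have v0 : val (E 0) = u := by simp [val, hE, coords, coordsN]
  have v1 : val (E 1) = v' := by simp [val, hE, coords, coordsN]
  have v2 : val (E 2) = w := by simp [val, hE, coords, coordsN]
  have v3 : val (E 3) = u + v' := by simp [val, hE, coords, coordsN]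
  have hEinj : ∀ i j : Fin 4, E i = E j → i = j := coords_inj h2
  refine ⟨Set.range (val ∘ E), ?_, fun h hS => ?_⟩
  · rintro ⟨i, hi⟩
    have hi' : val (E i) = val 0 := by rw [show val (E i) = (0 : F) from hi]; simp [val]
    have := hinj _ _ hi'
    have e0 := congrFun this 0
    have e1 := congrFun this 1
    have e2 := congrFun this 2
    fin_cases i <;> simp [hE, coords, coordsN] at e0 e1 e2
  have him : ∀ i, ∃ j, h • val (E i) = val (E j) := fun i => by
    obtain ⟨j, hj⟩ := hS _ ⟨i, rfl⟩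
    exact ⟨j, hj.symm⟩
  choose π hπ using him
  have hπinj : ∀ i j, π i = π j → i = j := fun i j e => hEinj _ _ (hinj _ _
    (smul_left_cancel h ((hπ i).trans ((by rw [e] : val (E (π i)) = val (E (π j))).trans (hπ j).symm))))
  have hsum : E (π 0) + E (π 1) = E (π 3) := hinj _ _ (by
    rw [hval, ← hπ, ← hπ, ← hπ, ← smul_add, v0, v1, v3])
  obtain ⟨h01, h33⟩ := sum_pairs h2 _ _ _ (fun e => absurd (hπinj _ _ e) (by decide)) hsum
  have h22 : π 2 = 2 := by
    have a := hπinj 2 0
    have b := hπinj 2 1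
    have c := hπinj 2 3
    rcases h01 with ⟨p, q⟩ | ⟨p, q⟩ <;> rw [p] at a <;> rw [q] at b <;> rw [h33] at c <;>
      revert a b c <;> generalize π 2 = t <;> revert t <;> decide
  have hw := hπ 2
  rw [h22, v2] at hw
  have hu := hπ 0
  have hv := hπ 1
  rw [v0] at hu
  rw [v1] at hv
  rcases h01 with ⟨p, q⟩ | ⟨p, q⟩
  · rw [p, v0] at hu
    rw [q, v1] at hv
    exact hker' h hu hv hw
  · rw [p, v1] at hu
    rw [q, v0] at hv
    exact (hno h hw hu hv).elim

theorem rigid_three_two (h3 : ¬ 3 ∣ Nat.card H) {e' : Fin 3 → F}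
    (h2 : ∀ x : F, x + x = 0)
    (hli : ∀ c : Fin 3 → ZMod 2, ∑ i, (if c i = 1 then e' i else 0) = 0 → c = 0)
    (hker : ∀ h : H, (∀ i, h • e' i = e' i) → ∀ z : F, h • z = z) :
    ∃ S : Set F, (0 : F) ∉ S ∧ ∀ h : H, (∀ x ∈ S, h • x ∈ S) → ∀ z : F, h • z = z := by
  classical
  set U : AddSubgroup F := AddSubgroup.closure (Set.range e') with hU
  let e : ℕ → U := fun i => if hi : i < 3 then ⟨e' ⟨i, hi⟩, AddSubgroup.subset_closure ⟨_, rfl⟩⟩ else 0
  have h2U : ∀ x : U, x + x = 0 := fun x => Subtype.ext (h2 x)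
  have hw : ∀ w, ((wordSum e 3 w : U) : F) =
      ∑ i : Fin 3, if w.testBit i then e' i else 0 := fun w => by
    rw [wordSum, AddSubgroup.val_finsetSum, ← Fin.sum_univ_eq_sum_range
      fun j => ((if w.testBit j then e j else 0 : U) : F)]
    refine Finset.sum_congr rfl fun i _ => ?_
    by_cases hi : w.testBit (i : ℕ) = true
    · simp [hi, e]
    · simp [hi]
  have hzero : ∀ w < 8, wordSum e 3 w = 0 → w = 0 := by
    intro w hw8 h0
    have := hli (fun i => if w.testBit i then 1 else 0) (by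
      refine Eq.trans ?_ ((hw w).symm.trans (congrArg Subtype.val h0))
      refine Finset.sum_congr rfl fun i _ => ?_
      by_cases hi : w.testBit (i : ℕ) = true <;> simp [hi])
    refine Nat.zero_of_testBit_eq_false fun i => ?_
    by_cases hi : i < 3
    · by_contra hb
      have := congrFun this ⟨i, hi⟩
      simp only [Bool.not_eq_false] at hb
      simp [hb] at this
    · exact Nat.testBit_lt_two_pow (hw8.trans_le (Nat.pow_le_pow_right two_pos (by omega : 3 ≤ i)))
  have hinj : ∀ v < 2 ^ 3, ∀ w < 2 ^ 3, wordSum e 3 v = wordSum e 3 w → v = w := by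
    intro v hv w hw' he
    have := hzero (v ^^^ w) (Nat.xor_lt_two_pow (n := 3) hv hw') (by rw [wordSum_xor h2U, he, h2U])
    exact Nat.xor_eq_zero_iff.1 this
  have hsurj : ∀ x : U, ∃ w < 2 ^ 3, wordSum e 3 w = x := by
    rintro ⟨x, hx⟩
    induction hx using AddSubgroup.closure_induction with
    | mem y hy =>
      obtain ⟨i, rfl⟩ := hy
      refine ⟨2 ^ (i : ℕ), Nat.pow_lt_pow_right one_lt_two i.2, ?_⟩
      rw [wordSum_two_pow e i.2]
      simp [e]
    | zero => exact ⟨0, by norm_num, wordSum_zero e 3⟩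
    | add y z hy hz ey ez =>
      obtain ⟨a, ha, ea⟩ := ey
      obtain ⟨b, hb, eb⟩ := ez
      exact ⟨a ^^^ b, Nat.xor_lt_two_pow ha hb, by rw [wordSum_xor h2U, ea, eb]; rfl⟩
    | neg y hy ey =>
      obtain ⟨a, ha, ea⟩ := ey
      exact ⟨a, ha, by rw [ea]; exact Subtype.ext (eq_neg_of_add_eq_zero_left (h2 y))⟩
  -- the maps induced on the span
  let P : (U ≃+ U) → Prop := fun g => ∃ h : H, ∀ z : U, h • (z : F) = g z
  have hcomp : ∀ g g', P g → P g' → P (g.trans g') := by
    rintro g g' ⟨h, eh⟩ ⟨h', eh'⟩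
    exact ⟨h' * h, fun z => by rw [mul_smul, eh, eh']; rfl⟩
  have hthree : ∀ g, P g → (∀ y, g (g (g y)) = y) → ∀ y, g y = y := by
    rintro g ⟨h, eh⟩ hg y
    refine Subtype.ext ?_
    rw [← eh]
    refine smul_eq_of_cube h3 ?_
    rw [eh, eh, eh, hg]
  obtain ⟨b, hbmem, hgood⟩ : ∃ b ∈ basesOf 3, ∀ d ∈ swaps b, ∀ g, P g →
      ¬ ∀ p ∈ b.zip d, g (wordSum e 3 p.1) = wordSum e 3 p.2 := by
    by_contra! hno
    exact swapGo_sound (Or.inr rfl) h2U hsurj hinj hcomp hthree (basesOf 3) [] (fun _ h => h)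
      (by simp) (Bool.and_eq_true_iff.1 swap_ok.2).2 hno
  obtain ⟨x, y, z, rfl⟩ : ∃ x y z, b = [x, y, z] := by
    have : ∀ b ∈ basesOf 3, b.length = 3 := by decide
    exact List.length_eq_three.1 (this b hbmem)
  obtain ⟨⟨hx8, hy8, hz8⟩, ⟨hx0, hy0, hz0⟩, ⟨hxy, hxz, hyz⟩, hgen⟩ :
      (x < 8 ∧ y < 8 ∧ z < 8) ∧ (x ≠ 0 ∧ y ≠ 0 ∧ z ≠ 0) ∧ (x ≠ y ∧ x ≠ z ∧ y ≠ z) ∧
        ∀ i < 3, 2 ^ i ∈ [x, y, z, x ^^^ y, x ^^^ z, y ^^^ z, x ^^^ y ^^^ z] := by
    have : ∀ b ∈ basesOf 3, (b.getD 0 0 < 8 ∧ b.getD 1 0 < 8 ∧ b.getD 2 0 < 8) ∧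
        (b.getD 0 0 ≠ 0 ∧ b.getD 1 0 ≠ 0 ∧ b.getD 2 0 ≠ 0) ∧
        (b.getD 0 0 ≠ b.getD 1 0 ∧ b.getD 0 0 ≠ b.getD 2 0 ∧ b.getD 1 0 ≠ b.getD 2 0) ∧
        ∀ i < 3, 2 ^ i ∈ [b.getD 0 0, b.getD 1 0, b.getD 2 0, b.getD 0 0 ^^^ b.getD 1 0,
          b.getD 0 0 ^^^ b.getD 2 0, b.getD 1 0 ^^^ b.getD 2 0,
          b.getD 0 0 ^^^ b.getD 1 0 ^^^ b.getD 2 0] := by decide
    exact this _ hbmem
  set u : F := ((wordSum e 3 x : U) : F) with hu
  set v : F := ((wordSum e 3 y : U) : F) with hv
  set w : F := ((wordSum e 3 z : U) : F) with hw'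
  have hne : ∀ {a b : ℕ}, a < 8 → b < 8 → a ≠ b → ((wordSum e 3 a : U) : F) ≠ wordSum e 3 b :=
    fun ha hb hab e0 => hab (hinj _ ha _ hb (Subtype.ext e0))
  have hnz : ∀ {a : ℕ}, a < 8 → a ≠ 0 → ((wordSum e 3 a : U) : F) ≠ 0 :=
    fun ha ha0 e0 => ha0 (hzero _ ha (Subtype.ext e0))
  -- what fixes the basis fixes everything
  have hker' : ∀ h : H, h • u = u → h • v = v → h • w = w → ∀ t : F, h • t = t := by
    intro h a b c
    refine hker h fun i => ?_
    have hmem := hgen i i.2
    simp only [List.mem_cons, List.not_mem_nil, or_false] at hmem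
    have hei : ((wordSum e 3 (2 ^ (i : ℕ)) : U) : F) = e' i := by
      rw [wordSum_two_pow e i.2]
      simp [e]
    rw [← hei]
    rcases hmem with e0 | e0 | e0 | e0 | e0 | e0 | e0 <;> rw [e0] <;>
      simp only [wordSum_xor h2U, AddSubgroup.coe_add, smul_add, ← hu, ← hv, ← hw', a, b, c]
  -- no interchange
  have hswap : ∀ d ∈ swaps [x, y, z], ∀ h : H,
      (∀ p ∈ [x, y, z].zip d, h • ((wordSum e 3 p.1 : U) : F) = wordSum e 3 p.2) →
      (∀ i, i = x ∨ i = y ∨ i = z → ∃ j, h • ((wordSum e 3 i : U) : F) = wordSum e 3 j) → False := by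
    intro d hd h hp hall
    have hmem : ∀ t : F, t ∈ U → h • t ∈ U := by
      have hall' : ∀ a : ℕ, a = x ∨ a = y ∨ a = z → h • ((wordSum e 3 a : U) : F) ∈ U := fun a ha => by
        obtain ⟨j, hj⟩ := hall a ha
        rw [hj]
        exact SetLike.coe_mem _
      intro t ht
      induction ht using AddSubgroup.closure_induction with
      | mem t ht =>
        obtain ⟨i, rfl⟩ := ht
        have hmem := hgen i i.2
        simp only [List.mem_cons, List.not_mem_nil, or_false] at hmem
        have hei : ((wordSum e 3 (2 ^ (i : ℕ)) : U) : F) = e' i := by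
          rw [wordSum_two_pow e i.2]
          simp [e]
        rw [← hei]
        rcases hmem with e0 | e0 | e0 | e0 | e0 | e0 | e0 <;> rw [e0] <;>
          (try simp only [wordSum_xor h2U, AddSubgroup.coe_add, smul_add])
        exacts [hall' _ (Or.inl rfl), hall' _ (Or.inr (Or.inl rfl)), hall' _ (Or.inr (Or.inr rfl)),
          add_mem (hall' _ (Or.inl rfl)) (hall' _ (Or.inr (Or.inl rfl))),
          add_mem (hall' _ (Or.inl rfl)) (hall' _ (Or.inr (Or.inr rfl))),
          add_mem (hall' _ (Or.inr (Or.inl rfl))) (hall' _ (Or.inr (Or.inr rfl))),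
          add_mem (add_mem (hall' _ (Or.inl rfl)) (hall' _ (Or.inr (Or.inl rfl))))
            (hall' _ (Or.inr (Or.inr rfl)))]
      | zero => rw [smul_zero]; exact zero_mem _
      | add t t' _ _ et et' => rw [smul_add]; exact add_mem et et'
      | neg t _ et => rw [smul_neg]; exact neg_mem et
    let f : U →+ U := AddMonoidHom.mk' (fun t => ⟨h • (t : F), hmem _ t.2⟩)
      fun a b => Subtype.ext (smul_add h (a : F) (b : F))
    have hf : Function.Injective f := fun a b e0 =>
      Subtype.ext (smul_left_cancel h (congrArg Subtype.val e0))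
    let g : U ≃+ U := AddEquiv.ofBijective f ⟨hf, Finite.surjective_of_injective hf⟩
    exact hgood d hd g ⟨h, fun t => rfl⟩ fun p hp' => Subtype.ext (hp p hp')
  refine ⟨{u, v, w}, ?_, fun h hS => rigid_perm h3 (hne hx8 hy8 hxy) (hne hx8 hz8 hxz)
    (hne hy8 hz8 hyz) ?_ ?_ ?_ hker' h hS⟩
  · simp only [Set.mem_insert_iff, Set.mem_singleton_iff, not_or]
    exact ⟨(hnz hx8 hx0).symm, (hnz hy8 hy0).symm, (hnz hz8 hz0).symm⟩
  · intro g a b c
    refine hswap [y, x, z] (by simp [swaps]) g (by simpa using ⟨a, b, c⟩) ?_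
    rintro i (rfl | rfl | rfl)
    exacts [⟨_, a⟩, ⟨_, b⟩, ⟨_, c⟩]
  · intro g a b c
    refine hswap [z, y, x] (by simp [swaps]) g (by simpa using ⟨a, b, c⟩) ?_
    rintro i (rfl | rfl | rfl)
    exacts [⟨_, a⟩, ⟨_, b⟩, ⟨_, c⟩]
  · intro g a b c
    refine hswap [x, z, y] (by simp [swaps]) g (by simpa using ⟨a, b, c⟩) ?_
    rintro i (rfl | rfl | rfl)
    exacts [⟨_, a⟩, ⟨_, b⟩, ⟨_, c⟩]

end Lin

theorem exists_rigid_set_module (h3 : ¬ 3 ∣ Nat.card H) (r : ℕ) [Fact r.Prime] [Module (ZMod r) F]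
    (hb : HasBase3 H F) :
    ∃ S : Set F, (0 : F) ∉ S ∧ ∀ h : H, (∀ x ∈ S, h • x ∈ S) → ∀ z : F, h • z = z := by
  classical
  have hF : ∀ x : F, r • x = 0 := fun x => by
    rw [← Nat.cast_smul_eq_nsmul (ZMod r), ZMod.natCast_self, zero_smul]
  haveI : Module.Finite (ZMod r) F := Module.Finite.of_finite
  obtain ⟨a, b, c, habc⟩ := hb
  set U : Submodule (ZMod r) F := Submodule.span (ZMod r) (Set.range ![a, b, c]) with hU
  obtain ⟨bas⟩ : Nonempty (Module.Basis (Fin (Module.finrank (ZMod r) U)) (ZMod r) U) :=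
    ⟨Module.finBasis (ZMod r) U⟩
  have hd : Module.finrank (ZMod r) U ≤ 3 :=
    (finrank_range_le_card ![a, b, c]).trans (by simp)
  generalize hdef : Module.finrank (ZMod r) U = d at bas hd
  set e : Fin d → F := fun i => (bas i : F) with he
  have hspan : ∀ x ∈ U, ∃ k : Fin d → ZMod r, ∑ i, k i • e i = x := fun x hx => ⟨fun i => bas.repr ⟨x, hx⟩ i, by
    have h := congrArg Subtype.val (bas.sum_repr ⟨x, hx⟩)
    rw [AddSubmonoidClass.coe_finsetSum] at h
    exact h⟩
  have hker : ∀ h : H, (∀ i, h • e i = e i) → ∀ z : F, h • z = z := fun h hh => by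
    have hfix : ∀ x ∈ U, h • x = x := fun x hx => by
      obtain ⟨k, rfl⟩ := hspan x hx
      exact sum_fixed hh k
    exact habc h (hfix a (Submodule.subset_span ⟨0, rfl⟩)) (hfix b (Submodule.subset_span ⟨1, rfl⟩))
      (hfix c (Submodule.subset_span ⟨2, rfl⟩))
  have hli : ∀ k : Fin d → ZMod r, ∑ i, k i • e i = 0 → k = 0 := fun k hk => by
    funext i
    refine Fintype.linearIndependent_iff.1 bas.linearIndependent k ?_ i
    apply Subtype.ext
    rw [AddSubmonoidClass.coe_finsetSum]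
    exact hk
  clear_value e
  clear he bas hspan hU
  rcases d with _ | _ | _ | _ | n
  · exact ⟨∅, by simp, fun h _ => hker h fun i => i.elim0⟩
  · refine ⟨{e 0}, ?_, fun h hS => hker h fun i => ?_⟩
    · intro h0
      have := congrFun (hli 1 (by simpa using (Set.mem_singleton_iff.1 h0).symm)) 0
      simp at this
    · rw [show i = 0 from Fin.ext (by omega)]
      exact hS _ rfl
  · refine rigid_two (u := e 0) (v := e 1) h3 ?_ ?_ ?_ ?_ fun h a b => hker h fun i => by
      fin_cases i <;> assumption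
    · intro h0
      simpa using congrFun (hli ![1, 0] (by simp [Fin.sum_univ_two, h0])) 0
    · intro h0
      simpa using congrFun (hli ![0, 1] (by simp [Fin.sum_univ_two, h0])) 1
    · intro h0
      simpa using congrFun (hli ![1, -1] (by simp [Fin.sum_univ_two, h0])) 0
    · intro h0
      simpa using congrFun (hli ![1, 1] (by simpa [Fin.sum_univ_two] using h0)) 0
  · by_cases hr : r = 2
    · subst hr
      refine rigid_three_two h3 (fun x => by rw [← two_nsmul]; exact hF x) (fun k hk => hli k ?_) hker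
      rw [← hk]
      refine Finset.sum_congr rfl fun i _ => ?_
      have hk2 : ∀ t : ZMod 2, t = 0 ∨ t = 1 := fun t => by fin_cases t <;> first | exact Or.inl rfl | exact Or.inr rfl
      rcases hk2 (k i) with t | t <;> rw [t]
      · rw [zero_smul, if_neg zero_ne_one]
      · rw [one_smul, if_pos rfl]
    · refine rigid_three_odd (r := r) h3 ?_ (u := e 0) (v := e 1) (w := e 2) (fun k hk => hli k ?_)
        fun h a b cc => hker h fun i => by fin_cases i <;> assumption
      · intro h2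
        have h' : ((2 : ℕ) : ZMod r) = 0 := by exact_mod_cast h2
        rw [ZMod.natCast_eq_zero_iff] at h'
        exact hr ((Nat.prime_dvd_prime_iff_eq Fact.out Nat.prime_two).1 h')
      · simpa [Fin.sum_univ_three] using hk
  · omega

theorem exists_rigid_set (h3 : ¬ 3 ∣ Nat.card H) (r : ℕ) [Fact r.Prime] (hF : ∀ x : F, r • x = 0)
    (hb : HasBase3 H F) :
    ∃ S : Set F, (0 : F) ∉ S ∧ ∀ h : H, (∀ x ∈ S, h • x ∈ S) → ∀ z : F, h • z = z :=
  @exists_rigid_set_module H _ _ F _ _ _ h3 r _ (AddCommGroup.zmodModule hF) hb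

end Rigid

/-- Three colourings, pairwise inequivalent, each with trivial stabiliser. -/
def IsThreeColourings (G : Type u) [Group G] {X : Type u} [MulAction G X]
    (c : ZMod 3 → X → ZMod 3) : Prop :=
  ∀ (i j : ZMod 3) (g : G), (∀ x, c j (g • x) = c i x) → i = j ∧ ∀ x : X, g • x = x

/-- The affine case. -/
theorem exists_three_primitive {G : Type u} [Group G] [Finite G] {X : Type u} [Finite X]
    [MulAction G X] [FaithfulSMul G X] [IsPretransitive G X] (hsol : Group.IsSolvable G)
    (h3 : ¬ 3 ∣ Nat.card G) {x₀ : X} (hmax : IsCoatom (stabilizer G x₀)) :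
    ∃ c : ZMod 3 → X → ZMod 3, IsThreeColourings G c := by
  classical
  haveI := hsol
  have hsol' : Group.IsSolvable (⊤ : Subgroup G) := inferInstance
  have htop : (⊤ : Subgroup G) ≠ ⊥ := fun h => hmax.1 (eq_top_iff.2 (h.trans_le bot_le))
  obtain ⟨M, p, hMn, -, hMne, hmin, hMc, -, -⟩ := Solvable.exists_abelian_minimal_normal hsol' htop
  haveI := hMn
  haveI := hMc
  have hMH : ¬ M ≤ stabilizer G x₀ := fun h => hMne ((Subgroup.eq_bot_iff_forall M).2 fun m hm =>
    eq_of_smul_eq_smul fun x : X => by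
      obtain ⟨g, rfl⟩ := exists_smul_eq G x₀ x
      have h1 := mem_stabilizer_iff.1 (h (hMn.conj_mem m hm g⁻¹))
      rw [inv_inv, mul_smul, mul_smul, inv_smul_eq_iff] at h1
      rw [one_smul, h1])
  have hsup : M ⊔ stabilizer G x₀ = ⊤ := hmax.2 _ (right_lt_sup.2 hMH)
  have hdec : ∀ g : G, ∃ m ∈ M, ∃ h ∈ stabilizer G x₀, m * h = g := fun g =>
    Subgroup.mem_sup_of_normal_left.1 (hsup ▸ Subgroup.mem_top g)
  have hsurj : ∀ x : X, ∃ m : M, (m : G) • x₀ = x := fun x => by
    obtain ⟨g, rfl⟩ := exists_smul_eq G x₀ x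
    obtain ⟨m, hm, h, hh, rfl⟩ := hdec g
    exact ⟨⟨m, hm⟩, by rw [mul_smul, mem_stabilizer_iff.1 hh]⟩
  have hcomm : ∀ a b : M, a * b = b * a := fun a b => mul_comm' a b
  have hinj : ∀ a b : M, (a : G) • x₀ = (b : G) • x₀ → a = b := fun a b hab => by
    refine inv_mul_eq_one.1 (Subtype.ext (eq_of_smul_eq_smul fun x : X => ?_))
    obtain ⟨c, rfl⟩ := hsurj x
    rw [Subgroup.coe_one, one_smul, ← mul_smul, ← Subgroup.coe_mul, hcomm, Subgroup.coe_mul, mul_smul,
      Subgroup.coe_mul, mul_smul, Subgroup.coe_inv, ← hab, inv_smul_smul]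
  set H := stabilizer G x₀ with hH
  letI : CommGroup M := { (inferInstance : Group M) with mul_comm := hcomm }
  let φ : H →* MulAut M := MulAut.conjNormal.comp H.subtype
  letI act : DistribMulAction H (Additive M) :=
    { smul := fun h a => Additive.ofMul (φ h a.toMul)
      one_smul := fun a => by
        show Additive.ofMul (φ 1 a.toMul) = a
        rw [map_one]; rfl
      mul_smul := fun h h' a => by
        show Additive.ofMul (φ (h * h') a.toMul) = Additive.ofMul (φ h (φ h' a.toMul))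
        rw [map_mul]; rfl
      smul_zero := fun h => by
        show Additive.ofMul (φ h 1) = Additive.ofMul (1 : M)
        rw [map_one]
      smul_add := fun h a b => by
        show Additive.ofMul (φ h (a.toMul * b.toMul)) = Additive.ofMul (φ h a.toMul * φ h b.toMul)
        rw [map_mul] }
  have hmove : ∀ (h : H) (a : M), (h : G) • (a : G) • x₀ = ((φ h a : M) : G) • x₀ := fun h a => by
    show _ = ((h : G) * a * (h : G)⁻¹) • x₀
    rw [mul_smul, mul_smul, mem_stabilizer_iff.1 (inv_mem h.2)]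
  have hirr : IsIrr H (Additive M) := by
    intro U hU
    let N : Subgroup G := (AddSubgroup.toSubgroup' U).map M.subtype
    have hNM : N ≤ M := by rintro _ ⟨a, -, rfl⟩; exact a.2
    have hNn : N.Normal := ⟨fun y hy g => by
      obtain ⟨a, ha, rfl⟩ := hy
      obtain ⟨m, hm, h, hh, rfl⟩ := hdec g
      refine ⟨φ ⟨h, hh⟩ a, hU ⟨h, hh⟩ _ ha, ?_⟩
      show h * (a : G) * h⁻¹ = m * h * (a : G) * (m * h)⁻¹
      have h1 := congrArg Subtype.val (hcomm ⟨m, hm⟩ (φ ⟨h, hh⟩ a))
      change m * (h * (a : G) * h⁻¹) = h * (a : G) * h⁻¹ * m at h1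
      rw [mul_inv_rev, show m * h * (a : G) * (h⁻¹ * m⁻¹) = m * (h * (a : G) * h⁻¹) * m⁻¹ by group, h1]
      group⟩
    rcases hmin N hNn hNM with h | h
    · left
      refine eq_bot_iff.2 fun a ha => AddSubgroup.mem_bot.2 ?_
      have h1 : ((a.toMul : M) : G) ∈ N := ⟨a.toMul, ha, rfl⟩
      rw [h, Subgroup.mem_bot, OneMemClass.coe_eq_one] at h1
      exact congrArg Additive.ofMul h1
    · right
      refine eq_top_iff.2 fun a _ => ?_
      have h1 : ((a.toMul : M) : G) ∈ N := by rw [h]; exact SetLike.coe_mem _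
      obtain ⟨b, hb, hba⟩ := h1
      have hb' : b = a.toMul := Subtype.ext hba
      subst hb'
      exact hb
  haveI : Finite (Additive M) := inferInstanceAs (Finite M)
  haveI : Nontrivial (Additive M) := by
    haveI := (Subgroup.nontrivial_iff_ne_bot M).2 hMne
    infer_instance
  obtain ⟨r, hr, hrM⟩ := exists_nsmul_eq_zero hirr
  haveI := Fact.mk hr
  obtain ⟨S, hS0, hS⟩ := exists_rigid_set (H := H) (F := Additive M)
    (fun h => h3 (h.trans H.card_subgroup_dvd_card)) r hrM (hasBase3 inferInstance hirr.isCR)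
  set T : Set X := (fun a : Additive M => ((a.toMul : M) : G) • x₀) '' S with hT
  have hx₀T : x₀ ∉ T := by
    rintro ⟨a, ha, h⟩
    refine hS0 ?_
    rwa [show (0 : Additive M) = a from congrArg Additive.ofMul (hinj 1 a.toMul (by
      rw [Subgroup.coe_one, one_smul]; exact h.symm))]
  let col : X → ZMod 3 := fun x => if x = x₀ then 1 else if x ∈ T then 2 else 0
  haveI := Fintype.ofFinite X
  have hcardX : Nat.card X = Nat.card M :=
    (Nat.card_congr (Equiv.ofBijective (fun m : M => (m : G) • x₀) ⟨fun a b => hinj a b, hsurj⟩)).symm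
  refine ⟨fun i x => i + col x, fun i j g h => ?_⟩
  simp only at h
  have hij : i = j := by
    have hs : ∑ x, (j + col (g • x)) = ∑ x, (i + col x) := Finset.sum_congr rfl fun x _ => h x
    rw [Finset.sum_add_distrib, Finset.sum_add_distrib,
      show (∑ x, col (g • x)) = ∑ x, col x from Equiv.sum_comp (MulAction.toPerm g) col, add_left_inj,
      Finset.sum_const, Finset.sum_const, Finset.card_univ, ← Nat.card_eq_fintype_card, nsmul_eq_mul,
      nsmul_eq_mul] at hs
    haveI : Fact (Nat.Prime 3) := ⟨Nat.prime_three⟩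
    refine (mul_left_cancel₀ ?_ hs).symm
    rw [Ne, ZMod.natCast_eq_zero_iff, hcardX]
    exact fun h0 => h3 (h0.trans M.card_subgroup_dvd_card)
  subst hij
  refine ⟨rfl, ?_⟩
  have hc : ∀ x, col (g • x) = col x := fun x => add_left_cancel (h x)
  have h0 : g • x₀ = x₀ := by
    have h1 := hc x₀
    simp only [col, if_true] at h1
    by_contra hne
    rw [if_neg hne] at h1
    split_ifs at h1 <;> revert h1 <;> decide
  let k : H := ⟨g, mem_stabilizer_iff.2 h0⟩
  have hk : ∀ a ∈ S, k • a ∈ S := by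
    intro a ha
    have hmem : ((a.toMul : M) : G) • x₀ ∈ T := ⟨a, ha, rfl⟩
    have h1 := hc (((a.toMul : M) : G) • x₀)
    simp only [col, if_neg (fun e : _ = x₀ => hx₀T (e ▸ hmem)), if_pos hmem] at h1
    split_ifs at h1 with e1 e2
    · exact absurd h1 (by decide)
    · obtain ⟨b, hb, hba⟩ := e2
      have e : k • a = b := congrArg Additive.ofMul
        (hinj _ _ ((hmove k a.toMul).symm.trans hba.symm))
      rwa [e]
    · exact absurd h1 (by decide)
  intro x
  obtain ⟨m, rfl⟩ := hsurj x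
  exact (hmove k m).trans (congrArg (fun b : M => (b : G) • x₀)
    (congrArg Additive.toMul (hS k hk (Additive.ofMul m))))

theorem exists_three_colourings_aux :
    ∀ (N : ℕ) {G : Type u} [Group G] [Finite G] {X : Type u} [Finite X] [MulAction G X],
      Nonempty X → Group.IsSolvable G → ¬ 3 ∣ Nat.card G → Nat.card X = N →
      ∃ c : ZMod 3 → X → ZMod 3, IsThreeColourings G c := by
  intro N
  induction N using Nat.strong_induction_on with
  | _ N ih =>
  intro G _ _ X _ _ hne hsol h3 hN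
  classical
  haveI := hsol
  obtain ⟨x₀⟩ := hne
  by_cases htr : ∀ x : X, x ∈ orbit G x₀
  swap
  · -- intransitive
    push Not at htr
    obtain ⟨y, hy⟩ := htr
    let A : SubMulAction G X := ⟨orbit G x₀, fun g {x} hx => by
      rw [← orbit_eq_iff.2 hx]; exact mem_orbit x g⟩
    let B : SubMulAction G X := ⟨(orbit G x₀)ᶜ, fun g {x} hx h => hx (by
      have := A.smul_mem' g⁻¹ h
      rwa [inv_smul_smul] at this)⟩
    have hA : Nat.card A < N := hN ▸ card_lt_of_injective_notMem (Subtype.val)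
      Subtype.val_injective (b := y) (fun ⟨z, hz⟩ h => hy (h ▸ hz))
    have hB' : Nat.card B < N := hN ▸ card_lt_of_injective_notMem (Subtype.val)
      Subtype.val_injective (b := x₀) (fun ⟨z, hz⟩ h =>
        hz (by rw [show z = x₀ from h]; exact mem_orbit_self x₀))
    obtain ⟨c₁, hc₁⟩ := ih _ hA (G := G) (X := A) ⟨⟨x₀, mem_orbit_self x₀⟩⟩ hsol h3 rfl
    obtain ⟨c₂, hc₂⟩ := ih _ hB' (G := G) (X := B) ⟨⟨y, hy⟩⟩ hsol h3 rfl
    let c : ZMod 3 → X → ZMod 3 := fun i x =>
      if hx : x ∈ orbit G x₀ then c₁ i ⟨x, hx⟩ else c₂ i ⟨x, hx⟩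
    have e1 : ∀ (i : ZMod 3) (a : A), c i a = c₁ i a := fun i a => dif_pos a.2
    have e2 : ∀ (i : ZMod 3) (b : B), c i b = c₂ i b := fun i b => dif_neg b.2
    refine ⟨c, fun i j g h => ?_⟩
    obtain ⟨hij, h1⟩ := hc₁ i j g fun a => by rw [← e1, ← e1]; exact h a
    obtain ⟨-, h2⟩ := hc₂ i j g fun b => by rw [← e2, ← e2]; exact h b
    refine ⟨hij, fun x => ?_⟩
    by_cases hx : x ∈ orbit G x₀
    · exact congrArg Subtype.val (h1 ⟨x, hx⟩)
    · exact congrArg Subtype.val (h2 ⟨x, hx⟩)
  haveI : IsPretransitive G X := ⟨fun a b => by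
    obtain ⟨g, rfl⟩ := htr a
    obtain ⟨g', rfl⟩ := htr b
    exact ⟨g' * g⁻¹, by show (g' * g⁻¹) • g • x₀ = g' • x₀; rw [mul_smul, inv_smul_smul]⟩⟩
  by_cases hfull : stabilizer G x₀ = ⊤
  · refine ⟨fun i _ => i, fun i j g h => ⟨(h x₀).symm, fun x => ?_⟩⟩
    obtain ⟨a, rfl⟩ := htr x
    have h' : ∀ b : G, b • x₀ = x₀ := fun b => mem_stabilizer_iff.1 (hfull ▸ Subgroup.mem_top b)
    show g • a • x₀ = a • x₀
    rw [h' a, h' g]
  obtain ⟨K, hK, hHK⟩ := (eq_top_or_exists_le_coatom (stabilizer G x₀)).resolve_left hfull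
  by_cases hKH : K = stabilizer G x₀
  · -- primitive
    set f := (MulAction.toPermHom G X).rangeRestrict with hf
    have hfs : Function.Surjective f := MonoidHom.rangeRestrict_surjective _
    haveI : IsPretransitive (MulAction.toPermHom G X).range X := ⟨fun a b => by
      obtain ⟨g, hg⟩ := exists_smul_eq G a b
      exact ⟨f g, hg⟩⟩
    have hcomap : (stabilizer (MulAction.toPermHom G X).range x₀).comap f = stabilizer G x₀ := by
      ext g; rfl
    have hmax : IsCoatom (stabilizer (MulAction.toPermHom G X).range x₀) := by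
      refine ⟨fun h => hfull (by rw [← hcomap, h, Subgroup.comap_top]), fun L hL => ?_⟩
      have h1 : K ≤ L.comap f := by rw [hKH, ← hcomap]; exact Subgroup.comap_mono hL.le
      rcases h1.lt_or_eq with h2 | h2
      · exact Subgroup.comap_injective hfs ((hK.2 _ h2).trans (Subgroup.comap_top f).symm)
      · exact absurd (Subgroup.comap_injective hfs ((hcomap.trans hKH.symm).trans h2)) hL.ne
    obtain ⟨c, hc⟩ := exists_three_primitive (Group.isSolvable_of_surjective hfs)
      (fun h => h3 (h.trans (Subgroup.card_range_dvd _))) hmax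
    exact ⟨c, fun i j g h => hc i j (f g) h⟩
  -- imprimitive
  choose rep hrep using htr
  replace hrep : ∀ x, rep x • x₀ = x := hrep
  let bl : X → G ⧸ K := fun x => QuotientGroup.mk (rep x)
  have hbl : ∀ (g : G) (x : X), g • x₀ = x → bl x = QuotientGroup.mk g := fun g x h =>
    QuotientGroup.eq.2 (hHK (mem_stabilizer_iff.2 (by rw [mul_smul, inv_smul_eq_iff, h, hrep])))
  have hbls : ∀ (g : G) (x : X), bl (g • x) = g • bl x := fun g x => by
    rw [hbl (g * rep x) (g • x) (by rw [mul_smul, hrep])]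
    rfl
  let S : SubMulAction K X := ⟨{x | bl x = ((1 : G) : G ⧸ K)}, fun k {x} hx => by
    show bl ((k : G) • x) = _
    rw [hbls, show bl x = _ from hx]
    exact QuotientGroup.eq.2 (by simp [k.2])⟩
  obtain ⟨g₀, hg₀⟩ : ∃ g, g ∉ K := by
    by_contra! h; exact hK.1 (eq_top_iff.2 fun x _ => h x)
  have hS : Nat.card S < N := hN ▸ card_lt_of_injective_notMem (Subtype.val)
      Subtype.val_injective (b := g₀ • x₀) (fun ⟨z, hz⟩ h => hg₀ (by
        have h1 : bl (g₀ • x₀) = ((1 : G) : G ⧸ K) := h ▸ hz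
        rw [hbl g₀ _ rfl] at h1
        simpa using QuotientGroup.eq.1 h1))
  have hQ : Nat.card (G ⧸ K) < N := by
    have hidx : (stabilizer G x₀).index = N := by rw [index_stabilizer_of_transitive G x₀, hN]
    rw [← Subgroup.index, ← hidx, ← Subgroup.relIndex_mul_index hHK]
    refine lt_mul_of_one_lt_left (Nat.pos_of_ne_zero Subgroup.index_ne_zero_of_finite)
      (lt_of_le_of_ne (Nat.pos_of_ne_zero ?_) fun h => hKH (le_antisymm
        (Subgroup.relIndex_eq_one.1 h.symm) hHK))
    exact Subgroup.index_ne_zero_of_finite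
  obtain ⟨t, ht⟩ := ih _ hS (G := K) (X := S) ⟨⟨x₀, hbl 1 x₀ (one_smul _ _)⟩⟩ inferInstance
    (fun h => h3 (h.trans K.card_subgroup_dvd_card)) rfl
  obtain ⟨Q, hQ'⟩ := ih _ hQ (G := G) (X := G ⧸ K) ⟨((1 : G) : G ⧸ K)⟩ hsol h3 rfl
  let r : X → G := fun x => (bl x).out
  have hr : ∀ x, bl ((r x)⁻¹ • x) = ((1 : G) : G ⧸ K) := fun x => by
    rw [hbls, inv_smul_eq_iff]
    show bl x = ((r x * 1 : G) : G ⧸ K)
    rw [mul_one]
    exact (QuotientGroup.out_eq' _).symm
  refine ⟨fun i x => t (Q i (bl x)) ⟨(r x)⁻¹ • x, hr x⟩, fun i j g h => ?_⟩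
  simp only at h
  have hstep : ∀ q : G ⧸ K, Q j (g • q) = Q i q ∧
      ∃ k : K, (g • q).out * (k : G) = g * q.out ∧ ∀ y : S, k • y = y := by
    intro q
    have hk : ((g • q).out)⁻¹ * (g * q.out) ∈ K := by
      refine QuotientGroup.eq.1 ?_
      rw [QuotientGroup.out_eq']
      conv_lhs => rw [← QuotientGroup.out_eq' q]
      rfl
    have hall : ∀ y : S, t (Q j (g • q)) ((⟨_, hk⟩ : K) • y) = t (Q i q) y := by
      intro y
      have hy : bl (y : X) = ((1 : G) : G ⧸ K) := y.2
      have hcx : bl (q.out • (y : X)) = q := by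
        rw [hbls, hy]
        show ((q.out * 1 : G) : G ⧸ K) = q
        rw [mul_one, QuotientGroup.out_eq']
      have hcgx : bl (g • q.out • (y : X)) = g • q := by rw [hbls, hcx]
      have h' := h (q.out • (y : X))
      refine Eq.trans ?_ (h'.trans ?_)
      · rw [hcgx]
        refine congrArg _ (Subtype.ext ?_)
        show (((g • q).out)⁻¹ * (g * q.out)) • (y : X) = (bl (g • q.out • (y : X))).out⁻¹ • _
        rw [hcgx, mul_smul, mul_smul]
      · rw [hcx]
        refine congrArg _ (Subtype.ext ?_)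
        show (bl (q.out • (y : X))).out⁻¹ • _ = (y : X)
        rw [hcx, inv_smul_smul]
    obtain ⟨heq, hk'⟩ := ht _ _ _ hall
    exact ⟨heq.symm, _, mul_inv_cancel_left _ _, hk'⟩
  obtain ⟨hij, hblocks⟩ := hQ' i j g fun q => (hstep q).1
  refine ⟨hij, fun x => ?_⟩
  obtain ⟨k, hk1, hk⟩ := (hstep (bl x)).2
  have h2 : (k : G) • (r x)⁻¹ • x = (r x)⁻¹ • x := congrArg Subtype.val (hk ⟨(r x)⁻¹ • x, hr x⟩)
  rw [hblocks] at hk1
  calc g • x = (g * r x) • (r x)⁻¹ • x := by rw [mul_smul, smul_inv_smul]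
    _ = ((r x) * (k : G)) • (r x)⁻¹ • x := by rw [show g * r x = r x * (k : G) from hk1.symm]
    _ = x := by rw [mul_smul, h2, smul_inv_smul]

/-- Three colourings for every solvable group of order prime to three. -/
theorem exists_three_colourings {G : Type u} [Group G] [Finite G] {X : Type u} [Finite X] [Nonempty X]
    [MulAction G X] (hsol : Group.IsSolvable G) (h3 : ¬ 3 ∣ Nat.card G) :
    ∃ c : ZMod 3 → X → ZMod 3, IsThreeColourings G c :=
  exists_three_colourings_aux _ ‹_› hsol h3 rfl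

end Cfsg.Agent.CoprimeBase.Colour
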